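/-
Four orthogonal lines: an element off the monomial group yields one fixing a coordinate line.
-/
import Cfsg.Agent.Lib.Classical.UFrameGen
import Cfsg.Agent.Lib.Classical.UFrameSeedEven
import Cfsg.Agent.Lib.Classical.UThree.FrobTwo

set_option autoImplicit false
set_option linter.unusedSectionVars false

namespace Cfsg.Agent.Classical.UFour

open Matrix Cfsg.Geo
open Cfsg.Agent.Classical
open Cfsg.Agent.Classical.LMon (IsMon)
open Cfsg.Agent.Classical.UFrame (Data Good supp mem_supp notMem_supp exists_notMem single_smul' not_isMon herm_sum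
  semi herm_swap herm_coord single_herm iso inv_entry exists_tor exists_col good_of_line)

universe u

variable {q : ℕ} {F : Type u} [Field F] [Fintype F] {σ : F ≃+* F}

local notation "φ" => hermForm 4 F q
local notation "Gl" => GL (Fin 4) F
local notation "Vn" => Fin 4 → F
local notation:max g:max " ⬝ₘ " x:max => ((g : Gl) : Matrix (Fin 4) (Fin 4) F) *ᵥ x

/-- A monomial matrix with nonzero diagonal entry is diagonal in that column. -/
theorem mon_col {y : Gl} (hm : IsMon (y : Matrix (Fin 4) (Fin 4) F)) {m p : Fin 4} (hmm : (y ⬝ₘ (Pi.single m 1)) m ≠ 0)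
    (hp : p ≠ m) : (y ⬝ₘ (Pi.single m 1)) p = 0 := by
  by_contra h
  exact not_isMon hp h hmm hm

variable {K : Subgroup (GL (Fin 4) F)} (D : Data q σ K)

include D

theorem col_ne_zero (g : Gl) (j : Fin 4) : g ⬝ₘ (Pi.single j 1) ≠ 0 := fun h => by
  rw [← mulVec_zero (g : Matrix (Fin 4) (Fin 4) F)] at h
  simpa using congrFun (gl_mulVec_injective g h) j

theorem col_sum {g : Gl} (hg : g ∈ K) (j : Fin 4) :
    ∑ p, (g ⬝ₘ (Pi.single j 1)) p * σ ((g ⬝ₘ (Pi.single j 1)) p) = 1 := by
  rw [← herm_sum D, iso D hg, single_herm D, Pi.single_eq_same, map_one, one_mul]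

theorem row_sum {g : Gl} (hg : g ∈ K) (k : Fin 4) :
    ∑ p, (g ⬝ₘ (Pi.single p 1)) k * σ ((g ⬝ₘ (Pi.single p 1)) k) = 1 := by
  refine (Finset.sum_congr rfl fun p _ => ?_).trans (col_sum D (inv_mem hg) k)
  rw [inv_entry D hg, D.sig.involutive, mul_comm]

/-- A torus element with a conjugate. -/
theorem conj_tor {g : Gl} (hg : g ∈ K) (θ : Fin 4 → F) (hθ : ∀ i, θ i * σ (θ i) = 1) (hp : ∏ i, θ i = 1) :
    ∃ y ∈ K, ∀ z, y ⬝ₘ z = ∑ p, (θ p * φ z (g ⬝ₘ (Pi.single p 1))) • (g ⬝ₘ (Pi.single p 1)) := by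
  obtain ⟨t, ht, htv⟩ := exists_tor D θ hθ hp
  refine ⟨g * t * g⁻¹, mul_mem (mul_mem hg ht) (inv_mem hg), fun z => ?_⟩
  rw [gl_mul_mulVec, gl_mul_mulVec]
  have : t ⬝ₘ ((g⁻¹ : Gl) ⬝ₘ z) = ∑ p, (θ p * φ z (g ⬝ₘ (Pi.single p 1))) • (Pi.single p 1 : Vn) := by
    funext i
    rw [htv, Finset.sum_apply, Finset.sum_eq_single i (fun p _ hp => by simp [Pi.single_eq_of_ne (Ne.symm hp)]) (by simp),
      Pi.smul_apply, Pi.single_eq_same, smul_eq_mul, mul_one]
    congr 1
    have := iso D hg ((g⁻¹ : Gl) ⬝ₘ z) (Pi.single i 1)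
    rw [gl_mulVec_inv_cancel, herm_coord D, map_one, mul_one] at this
    exact this.symm
  rw [this, mulVec_sum]
  exact Finset.sum_congr rfl fun p _ => mulVec_smul _ _ _

theorem expand {g : Gl} (hg : g ∈ K) (z : Vn) :
    ∑ p, φ z (g ⬝ₘ (Pi.single p 1)) • (g ⬝ₘ (Pi.single p 1)) = z := by
  obtain ⟨t, ht, htv⟩ := conj_tor D hg (fun _ => 1) (fun _ => by rw [map_one, one_mul]) (by simp)
  have h1 : t ⬝ₘ z = z := by
    obtain ⟨w, hw⟩ : ∃ w, g ⬝ₘ w = z := ⟨(g⁻¹ : Gl) ⬝ₘ z, gl_mulVec_inv_cancel _ _⟩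
    rw [htv, ← hw]
    conv_rhs => rw [← Finset.univ_sum_single w]
    rw [mulVec_sum]
    refine Finset.sum_congr rfl fun p _ => ?_
    rw [one_mul, iso D hg, herm_coord D, map_one, mul_one, ← mulVec_smul, ← Pi.single_smul, smul_eq_mul, mul_one]
  simpa [h1] using (htv z).symm

/-- One place apart. -/
theorem theta_one {a : F} (ha : a * σ a = 1) (k : Fin 4) :
    (∀ i, (if i = k then σ a * σ a * σ a else a) * σ (if i = k then σ a * σ a * σ a else a) = 1) ∧
      ∏ i : Fin 4, (if i = k then σ a * σ a * σ a else a) = 1 := by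
  refine ⟨fun i => ?_, ?_⟩
  · split_ifs
    · rw [map_mul, map_mul, D.sig.involutive]
      linear_combination ((a * σ a) * (a * σ a) + a * σ a + 1) * ha
    · exact ha
  · rw [← Finset.mul_prod_erase _ _ (Finset.mem_univ k), if_pos rfl,
      Finset.prod_congr rfl (fun i hi => if_neg (Finset.ne_of_mem_erase hi)), Finset.prod_const,
      Finset.card_erase_of_mem (Finset.mem_univ k), Finset.card_univ, Fintype.card_fin]
    norm_num
    linear_combination ((a * σ a) * (a * σ a) + a * σ a + 1) * ha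

/-- A pseudo-reflection up to a scalar, conjugated. -/
theorem conj_hom {g : Gl} (hg : g ∈ K) (j : Fin 4) {a : F} (ha : a * σ a = 1) :
    ∃ x ∈ K, ∀ z, x ⬝ₘ z =
      a • z + ((σ a * σ a * σ a - a) * φ z (g ⬝ₘ (Pi.single j 1))) • (g ⬝ₘ (Pi.single j 1)) := by
  obtain ⟨x, hx, hxv⟩ := conj_tor D hg _ (theta_one D ha j).1 (theta_one D ha j).2
  refine ⟨x, hx, fun z => ?_⟩
  conv_rhs => arg 1; rw [← expand D hg z]
  rw [hxv, Finset.smul_sum, ← Finset.add_sum_erase _ _ (Finset.mem_univ j),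
    ← Finset.add_sum_erase _ _ (Finset.mem_univ j), if_pos rfl,
    Finset.sum_congr rfl (fun p hp => by rw [if_neg (Finset.ne_of_mem_erase hp), ← smul_smul])]
  rw [smul_smul, add_right_comm, ← add_smul]
  congr 2
  ring

theorem exists_quartic (hq : q ≠ 3) : ∃ a : F, a * σ a = 1 ∧ a ^ 4 ≠ 1 := by
  obtain ⟨a, ha, -, -, hord⟩ := D.sig.exists_norm_one
  refine ⟨a, ha, fun e => ?_⟩
  have h := hord 4 e
  have h5 := Nat.le_of_dvd (by norm_num) h
  have := D.sig.two_le
  have h3 : q ≤ 3 := by omega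
  interval_cases q <;> omega

/-- A zero entry gives a good vector. -/
theorem good_of_zero (hq : q ≠ 3) {g : Gl} (hg : g ∈ K) (hnm : ¬ IsMon (g : Matrix (Fin 4) (Fin 4) F)) {k j : Fin 4}
    (h0 : (g ⬝ₘ (Pi.single j 1)) k = 0) : ∃ r, Good q σ K r ∧ 2 ≤ (supp r).card := by
  classical
  obtain ⟨a, ha, ha4⟩ := exists_quartic D hq
  have ha0 : a ≠ 0 := left_ne_zero_of_mul_eq_one ha
  have hσa : σ a = a⁻¹ := eq_inv_of_mul_eq_one_right ha
  obtain ⟨μ, hμ⟩ : ∃ μ, μ = σ a * σ a * σ a - a := ⟨_, rfl⟩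
  have hμ0 : μ ≠ 0 := fun e => ha4 (by
    rw [hμ, sub_eq_zero] at e
    linear_combination -(a ^ 3) * e + ((a * σ a) * (a * σ a) + a * σ a + 1) * ha)
  obtain ⟨u, hu⟩ : ∃ u, u = ((g⁻¹ : Gl)) ⬝ₘ (Pi.single k 1) := ⟨_, rfl⟩
  have huj : u j = 0 := by rw [hu, inv_entry D hg, h0, map_zero]
  have hnm' : ¬ IsMon ((g⁻¹ : Gl) : Matrix (Fin 4) (Fin 4) F) := fun h => hnm (by
    have := LMon.isMon_inv h
    rwa [inv_inv] at this)
  by_cases h1 : (supp u).card ≤ 1
  · rcases Nat.le_one_iff_eq_zero_or_eq_one.mp h1 with h | h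
    · have hz : u = 0 := funext fun i => notMem_supp.mp (by
        rw [Finset.card_eq_zero.mp h]; exact Finset.notMem_empty i)
      exact absurd (hu.symm.trans hz) (col_ne_zero D g⁻¹ k)
    obtain ⟨p, hp⟩ := Finset.card_eq_one.mp h
    refine good_of_line D (inv_mem hg) hnm' (a := k) (b := p) (c := u p) (hu ▸ funext fun i => ?_)
    by_cases hi : i = p
    · subst hi; rw [Pi.single_eq_same]
    · have : i ∉ supp u := by rw [hp]; simpa using hi
      rw [Pi.single_eq_of_ne hi, notMem_supp.mp this]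
  by_cases h3 : 3 ≤ (supp u).card
  · -- the pseudo-reflection with centre the row
    obtain ⟨y, hy, hyv⟩ := conj_hom D (inv_mem hg) k ha
    rw [← hu, ← hμ] at hyv
    obtain ⟨s, hs, hs3⟩ := Finset.exists_subset_card_eq h3
    obtain ⟨p, r, r', hpr, hpr', hrr, hse⟩ := Finset.card_eq_three.mp hs3
    subst hse
    have hne : ∀ i ∈ ({p, r, r'} : Finset (Fin 4)), u i ≠ 0 := fun i hi => mem_supp.mp (hs hi)
    refine good_of_line D hy (not_isMon (j := p) hrr ?_ ?_) (a := j) (b := j) (c := a) ?_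
    · rw [hyv, single_herm D, one_mul, Pi.add_apply, Pi.smul_apply, Pi.smul_apply, Pi.single_eq_of_ne (Ne.symm hpr),
        smul_zero, zero_add, smul_eq_mul]
      exact mul_ne_zero (mul_ne_zero hμ0 ((map_ne_zero σ).mpr (hne p (by simp)))) (hne r (by simp))
    · rw [hyv, single_herm D, one_mul, Pi.add_apply, Pi.smul_apply, Pi.smul_apply, Pi.single_eq_of_ne (Ne.symm hpr'),
        smul_zero, zero_add, smul_eq_mul]
      exact mul_ne_zero (mul_ne_zero hμ0 ((map_ne_zero σ).mpr (hne p (by simp)))) (hne r' (by simp))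
    · rw [hyv, single_herm D, huj, map_zero, mul_zero, mul_zero, zero_smul, add_zero, ← Pi.single_smul, smul_eq_mul,
        mul_one]
  -- two places
  obtain ⟨p, r, hpr, hs⟩ := Finset.card_eq_two.mp (by omega : (supp u).card = 2)
  have hup : u p ≠ 0 := mem_supp.mp (by rw [hs]; simp)
  have hur : u r ≠ 0 := mem_supp.mp (by rw [hs]; simp)
  have hout : ∀ i, i ≠ p → i ≠ r → u i = 0 := fun i h h' => notMem_supp.mp (by rw [hs]; simp [h, h'])
  obtain ⟨C, hC⟩ : ∃ C : Fin 4 → Vn, C = fun i => g ⬝ₘ (Pi.single i 1) := ⟨_, rfl⟩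
  have hCC : ∀ i i', φ (C i) (C i') = if i = i' then 1 else 0 := fun i i' => by
    rw [hC, iso D hg, single_herm D, one_mul]
    by_cases h : i = i'
    · subst h; simp
    · simp [h]
  have hCk : ∀ i, φ (Pi.single k 1) (C i) = u i := fun i => by
    rw [single_herm D, one_mul, hu, inv_entry D hg, hC]
  have hek : Pi.single k 1 = u p • C p + u r • C r := by
    conv_lhs => rw [← expand D hg (Pi.single k 1)]
    rw [← Finset.sum_subset (Finset.subset_univ {p, r}) fun i _ hi => by
      simp only [Finset.mem_insert, Finset.mem_singleton, not_or] at hi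
      rw [← congrFun hC i, hCk, hout i hi.1 hi.2, zero_smul], Finset.sum_pair hpr]
    simp only [← congrFun hC p, ← congrFun hC r, hCk]
  have hT : a + σ a ≠ 0 := fun e => ha4 (by
    linear_combination (-(a ^ 2) + 1) * ha + (a ^ 3 - a) * e)
  have hab : a ≠ σ a := fun e => ha4 (by
    linear_combination (a ^ 2 + 1) * ha + (a ^ 3 + a) * e)
  have haσ : σ a * σ (σ a) = 1 := by rw [D.sig.involutive, mul_comm]; exact ha
  obtain ⟨y, hy, hyv⟩ := conj_tor D hg (fun i => if i = p ∨ i = r then a else σ a)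
    (fun i => by split_ifs; exacts [ha, haσ]) (by
      obtain ⟨s, t, hst, hse⟩ : ∃ s t, s ≠ t ∧ ({p, r} : Finset (Fin 4))ᶜ = {s, t} := Finset.card_eq_two.mp (by
        rw [Finset.card_compl, Finset.card_pair hpr, Fintype.card_fin])
      rw [← Finset.prod_mul_prod_compl ({p, r} : Finset (Fin 4)), hse, Finset.prod_pair hpr, Finset.prod_pair hst]
      have hs' : s ∈ ({p, r} : Finset (Fin 4))ᶜ := by rw [hse]; simp
      have ht' : t ∈ ({p, r} : Finset (Fin 4))ᶜ := by rw [hse]; simp
      simp only [Finset.mem_compl, Finset.mem_insert, Finset.mem_singleton] at hs' ht'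
      rw [if_pos (Or.inl rfl), if_pos (Or.inr rfl), if_neg hs', if_neg ht']
      linear_combination (a * σ a + 1) * ha)
  obtain ⟨Q, hQ⟩ : ∃ Q : Vn → Vn, Q = fun z => φ z (C p) • C p + φ z (C r) • C r := ⟨_, rfl⟩
  have hyQ : ∀ z, y ⬝ₘ z = σ a • z + (a - σ a) • Q z := fun z => by
    conv_rhs => arg 1; rw [← expand D hg z]
    rw [hyv, Finset.smul_sum, ← Finset.sum_add_sum_compl {p, r}, ← Finset.sum_add_sum_compl {p, r} (fun i => σ a • _),
      Finset.sum_congr (s₁ := ({p, r} : Finset (Fin 4))ᶜ) rfl (fun i hi => by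
        simp only [Finset.mem_compl, Finset.mem_insert, Finset.mem_singleton] at hi
        rw [if_neg hi, ← smul_smul]), Finset.sum_pair hpr, Finset.sum_pair hpr, if_pos (Or.inl rfl),
      if_pos (Or.inr rfl), hQ, hC]
    module
  have hyk : y ⬝ₘ (Pi.single k 1) = Pi.single k a := by
    rw [hyQ, hQ]
    simp only [hCk]
    rw [← hek, ← add_smul, add_sub_cancel, ← Pi.single_smul, smul_eq_mul, mul_one]
  by_cases hym : IsMon (y : Matrix (Fin 4) (Fin 4) F)
  swap
  · exact good_of_line D hy hym hyk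
  -- the plane of two columns is a coordinate plane
  have hfixσ : ∀ {c : F} {d : F}, c = σ c → σ a + (a - σ a) * d = 0 → d = c → False := fun {c d} hc h he => by
    subst he
    have h' := congrArg σ h
    rw [map_add, map_mul, map_sub, D.sig.involutive, map_zero, ← hc] at h'
    exact hT (by linear_combination h + h')
  have hdiag : ∀ m, (y ⬝ₘ (Pi.single m 1)) m ≠ 0 := fun m e => by
    rw [hyQ, Pi.add_apply, Pi.smul_apply, Pi.smul_apply, Pi.single_eq_same, smul_eq_mul, smul_eq_mul, mul_one] at e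
    refine hfixσ (c := σ (C p m) * C p m + σ (C r m) * C r m) ?_ e ?_
    · rw [map_add, map_mul, map_mul, D.sig.involutive, D.sig.involutive, mul_comm (σ (C p m)), mul_comm (σ (C r m))]
    · rw [hQ]
      simp only [Pi.add_apply, Pi.smul_apply, smul_eq_mul, single_herm D, one_mul]
  obtain ⟨m, hmp, hmr⟩ : ∃ m, φ (Pi.single m 1) (C p) = 0 ∧ φ (Pi.single m 1) (C r) = 0 := by
    by_contra hcon
    push Not at hcon
    have hall : ∀ m, y ⬝ₘ (Pi.single m 1) = a • Pi.single m 1 := by
      intro m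
      have hcol : ∀ i, i ≠ m → Q (Pi.single m 1) i = 0 := fun i hi => by
        have := mon_col hym (hdiag m) hi
        rw [hyQ, Pi.add_apply, Pi.smul_apply, Pi.smul_apply, Pi.single_eq_of_ne hi, smul_zero, zero_add,
          smul_eq_mul, mul_eq_zero] at this
        exact this.resolve_left (sub_ne_zero.mpr hab)
      obtain ⟨c, hc⟩ : ∃ c, c = Q (Pi.single m 1) m := ⟨_, rfl⟩
      have hQc : Q (Pi.single m 1) = c • Pi.single m 1 := funext fun i => by
        by_cases hi : i = m
        · subst hi; simp [hc]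
        · simp [hcol i hi, hi]
      have hp' : ∀ i, i = p ∨ i = r → φ (Q (Pi.single m 1)) (C i) = φ (Pi.single m 1) (C i) := fun i hi => by
        rw [hQ, (semi D).add_left, (semi D).smul_left, (semi D).smul_left, hCC, hCC]
        rcases hi with rfl | rfl <;> simp [hpr, hpr.symm]
      have hc1 : c = 1 := by
        by_contra hc1
        have hz : ∀ i, i = p ∨ i = r → φ (Pi.single m 1) (C i) = 0 := fun i hi => by
          have := hp' i hi
          rw [hQc, (semi D).smul_left] at this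
          have h2 : (c - 1) * φ (Pi.single m 1) (C i) = 0 := by linear_combination this
          exact (mul_eq_zero.mp h2).resolve_left (sub_ne_zero.mpr hc1)
        exact hcon m (hz p (Or.inl rfl)) (hz r (Or.inr rfl))
      rw [hyQ, hQc, hc1, one_smul, ← add_smul, add_sub_cancel]
    obtain ⟨i₀, hi⟩ : ∃ i₀, i₀ ≠ p ∧ i₀ ≠ r := by
      obtain ⟨i, hi⟩ := exists_notMem (s := ({p, r} : Finset (Fin 4))) (by rw [Finset.card_pair hpr]; norm_num)
      exact ⟨i, by simpa using hi⟩
    have hlin : y ⬝ₘ (C i₀) = a • C i₀ := by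
      conv_lhs => rw [← Finset.univ_sum_single (C i₀)]
      rw [mulVec_sum]
      conv_rhs => rw [← Finset.univ_sum_single (C i₀), Finset.smul_sum]
      refine Finset.sum_congr rfl fun i _ => ?_
      rw [single_smul' i, mulVec_smul, hall, smul_comm]
    simp only [hyQ, hQ, hCC, hi.1, hi.2, if_false, zero_smul, add_zero, smul_zero] at hlin
    have := congrArg (fun z => φ z (C i₀)) hlin
    simp only [(semi D).smul_left, hCC, if_true, mul_one] at this
    exact hab this.symm
  have hkk : u p * σ (u p) + u r * σ (u r) = 1 := by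
    have h := col_sum D (inv_mem hg) k
    rw [← hu, ← Finset.sum_subset (Finset.subset_univ {p, r}) fun i _ hi => by
      simp only [Finset.mem_insert, Finset.mem_singleton, not_or] at hi
      rw [hout i hi.1 hi.2, zero_mul], Finset.sum_pair hpr] at h
    exact h
  obtain ⟨w, hw, hwv⟩ := conj_tor D hg (fun i => if i = p then a else if i = r then σ a else 1)
    (fun i => by split_ifs; exacts [ha, haσ, by rw [map_one, one_mul]]) (by
      rw [← Finset.prod_subset (Finset.subset_univ ({p, r} : Finset (Fin 4))) (fun i _ hi => by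
        simp only [Finset.mem_insert, Finset.mem_singleton, not_or] at hi
        simp [hi.1, hi.2]), Finset.prod_pair hpr]
      simp [hpr.symm, ha])
  have hwz : ∀ z, w ⬝ₘ z = z + ((a - 1) * φ z (C p)) • C p + ((σ a - 1) * φ z (C r)) • C r := fun z => by
    conv_rhs => arg 1; arg 1; rw [← expand D hg z]
    rw [hwv, ← Finset.sum_add_sum_compl {p, r}, ← Finset.sum_add_sum_compl {p, r} (fun i => φ z _ • _),
      Finset.sum_congr (s₁ := ({p, r} : Finset (Fin 4))ᶜ) rfl (fun i hi => by
        simp only [Finset.mem_compl, Finset.mem_insert, Finset.mem_singleton, not_or] at hi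
        rw [if_neg hi.1, if_neg hi.2, one_mul]), Finset.sum_pair hpr, Finset.sum_pair hpr, if_pos rfl,
      if_neg hpr.symm, if_pos rfl, hC]
    module
  have hwk : w ⬝ₘ (Pi.single k 1) = (a * u p) • C p + (σ a * u r) • C r := by
    rw [hwz, hCk, hCk, hek]
    module
  refine good_of_line D hw (fun hwm => ?_) (a := m) (b := m) (c := 1) (by
    rw [hwz, hmp, hmr, mul_zero, mul_zero, zero_smul, zero_smul, add_zero, add_zero])
  have hk' : φ (w ⬝ₘ (Pi.single k 1)) (Pi.single k 1) = a * (u p * σ (u p)) + σ a * (u r * σ (u r)) := by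
    rw [hwk, hek]
    simp only [(semi D).add_left, (semi D).add_right, (semi D).smul_left, (semi D).smul_right, hCC, hpr, hpr.symm,
      if_true, if_false]
    ring
  have hkne : (w ⬝ₘ (Pi.single k 1)) k ≠ 0 := fun e => by
    rw [herm_coord D, e, zero_mul] at hk'
    have h' := congrArg σ hk'
    simp only [map_add, map_mul, map_zero, D.sig.involutive] at h'
    exact hT (by linear_combination -hk' - h' - (a + σ a) * hkk)
  have hcol : w ⬝ₘ (Pi.single k 1) = (w ⬝ₘ (Pi.single k 1)) k • Pi.single k 1 := funext fun i => by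
    by_cases hi : i = k
    · subst hi; simp
    · simp [mon_col hwm hkne hi, hi]
  obtain ⟨c, hc⟩ : ∃ c, c = (w ⬝ₘ (Pi.single k 1)) k := ⟨_, rfl⟩
  rw [← hc] at hcol
  have e1 := congrArg (fun z => φ z (C p)) hcol
  have e2 := congrArg (fun z => φ z (C r)) hcol
  rw [hwk, hek] at e1 e2
  simp only [(semi D).add_left, (semi D).smul_left, hCC, hpr, hpr.symm, if_true, if_false, mul_one, mul_zero,
    add_zero, zero_add] at e1 e2
  exact hab ((mul_right_cancel₀ hup e1).trans (mul_right_cancel₀ hur e2).symm)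

end Cfsg.Agent.Classical.UFour
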