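/-
Four orthogonal lines: some element off the monomial group has a zero entry.
-/
import Cfsg.Agent.Lib.Classical.UFour.FrameSeed

set_option autoImplicit false
set_option linter.unusedSectionVars false

namespace Cfsg.Agent.Classical.UFour

open Matrix Cfsg.Geo
open Cfsg.Agent.Classical
open Cfsg.Agent.Classical.LMon (IsMon)
open Cfsg.Agent.Classical.UFrame (Data supp mem_supp notMem_supp exists_notMem single_smul' not_isMon herm_sum semi
  herm_swap herm_coord single_herm iso exists_tor exists_col)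

universe u

variable {q : ℕ} {F : Type u} [Field F] [Fintype F] {σ : F ≃+* F}

local notation "φ" => hermForm 4 F q
local notation "Gl" => GL (Fin 4) F
local notation "Vn" => Fin 4 → F
local notation:max g:max " ⬝ₘ " x:max => ((g : Gl) : Matrix (Fin 4) (Fin 4) F) *ᵥ x

/-- No element off the monomial group has a zero entry. -/
def NoZero (K : Subgroup (GL (Fin 4) F)) : Prop :=
  ∀ g ∈ K, ¬ IsMon (g : Matrix (Fin 4) (Fin 4) F) → ∀ k j,
    (((g : GL (Fin 4) F) : Matrix (Fin 4) (Fin 4) F) *ᵥ (Pi.single j 1)) k ≠ 0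

variable {K : Subgroup (GL (Fin 4) F)} (D : Data q σ K)

include D

/-- The dichotomy for a plane on a coordinate. -/
theorem frobenius_seed (hz : NoZero K) {g : Gl} (hg : g ∈ K) (hnm : ¬ IsMon (g : Matrix (Fin 4) (Fin 4) F))
    {a : F} (ha : a * σ a = 1) (h8 : a ^ 8 ≠ 1) (h12 : (2 : F) ≠ 0 → a ^ 12 ≠ 1) {k j : Fin 4}
    (hN : (g ⬝ₘ (Pi.single j 1)) k * σ ((g ⬝ₘ (Pi.single j 1)) k) ≠ 1) : False := by
  classical
  obtain ⟨v, hv⟩ : ∃ v, v = g ⬝ₘ (Pi.single j 1) := ⟨_, rfl⟩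
  have hvne : ∀ i, v i ≠ 0 := fun i => hv ▸ hz g hg hnm i j
  have hvv : φ v v = 1 := by rw [hv, iso D hg, single_herm D, Pi.single_eq_same, map_one, one_mul]
  obtain ⟨w, hw⟩ : ∃ w, w = v - v k • Pi.single k (1 : F) := ⟨_, rfl⟩
  have hwk : w k = 0 := by simp [hw]
  have hwi : ∀ i, i ≠ k → w i = v i := fun i hi => by simp [hw, hi]
  have hvw : v = v k • Pi.single k (1 : F) + w := by rw [hw, add_sub_cancel]
  have hew : φ (Pi.single k 1) w = 0 := by rw [single_herm D, hwk, map_zero, mul_zero]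
  have hwe : φ w (Pi.single k 1) = 0 := by rw [herm_coord D, hwk, zero_mul]
  have hvwN : φ v w = φ w w := by
    conv_lhs => arg 4; rw [hvw]
    rw [(semi D).add_left, (semi D).smul_left, hew, mul_zero, zero_add]
  obtain ⟨N, hNe⟩ : ∃ N, N = φ w w := ⟨_, rfl⟩
  have hN0 : N ≠ 0 := fun e => by
    rw [hvw, (semi D).add_left, (semi D).add_right, (semi D).add_right, (semi D).smul_left, (semi D).smul_left,
      (semi D).smul_right, (semi D).smul_right, hew, hwe, ← hNe, e, single_herm D, Pi.single_eq_same] at hvv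
    rw [← hv] at hN
    apply hN
    simp only [map_one, mul_one, mul_zero, add_zero] at hvv
    exact hvv
  obtain ⟨P, hP⟩ : ∃ P : Submodule F Vn, P = Submodule.span F {Pi.single k 1, w} := ⟨_, rfl⟩
  have hmemP : ∀ {z}, z ∈ P ↔ ∃ c d : F, c • Pi.single k 1 + d • w = z := fun {z} => by
    rw [hP, Submodule.mem_span_pair]
  let G₀ : Subgroup Gl := K ⊓ subspaceStabilizer P
  have hcrd : ∀ z ∈ P, z = z k • Pi.single k 1 + (φ z w / N) • w := fun z hzP => by
    obtain ⟨c, d, rfl⟩ := hmemP.mp hzP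
    have e1 : (c • Pi.single k 1 + d • w : Vn) k = c := by simp [hwk]
    have e2 : φ (c • Pi.single k 1 + d • w) w = d * N := by
      rw [(semi D).add_left, (semi D).smul_left, (semi D).smul_left, hew, mul_zero, zero_add, hNe]
    rw [e1, e2, mul_div_cancel_right₀ _ hN0]
  let b : Fin 2 → Vn := ![Pi.single k 1, w]
  let crd : Fin 2 → Vn → F := ![fun z => z k, fun z => φ z w / N]
  have hbP : ∀ i, b i ∈ P := fun i => by
    rw [hP]; fin_cases i <;> exact Submodule.subset_span (by simp [b])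
  have hpres : ∀ (y : G₀), ∀ z ∈ P, ((y : Gl)) ⬝ₘ z ∈ P := fun y z hzP => mem_subspaceStabilizer_iff.mp y.2.2 z hzP
  let f : G₀ →* Matrix (Fin 2) (Fin 2) F :=
    { toFun := fun y => Matrix.of fun i l => crd i (((y : Gl)) ⬝ₘ (b l))
      map_one' := by
        ext i l
        fin_cases i <;> fin_cases l <;> simp [crd, b, hwk, hew, ← hNe, hN0]
      map_mul' := fun x y => by
        ext i l
        rw [Matrix.mul_apply, Fin.sum_univ_two]
        simp only [Matrix.of_apply, Subgroup.coe_mul]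
        rw [gl_mul_mulVec]
        conv_lhs => rw [hcrd _ (hpres y _ (hbP l)), mulVec_add, mulVec_smul, mulVec_smul]
        fin_cases i <;>
          simp [crd, b, (semi D).add_left, (semi D).smul_left] <;> ring }
  let ρ : G₀ →* GL (Fin 2) F := f.toHomUnits
  have hρ : ∀ (y : G₀) i l, (ρ y : Matrix (Fin 2) (Fin 2) F) i l = crd i (((y : Gl)) ⬝ₘ (b l)) := fun y i l => rfl
  have hcolne : ∀ (y : G₀), ((y : Gl)) ⬝ₘ (Pi.single k 1) ≠ 0 := fun y => col_ne_zero D _ k
  obtain ⟨H, hH, hHv⟩ := exists_tor D _ (theta_one D ha k).1 (theta_one D ha k).2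
  have hHk : H ⬝ₘ (Pi.single k 1) = (σ a * σ a * σ a) • Pi.single k 1 := funext fun i => by
    rw [hHv]; by_cases hi : i = k
    · subst hi; simp
    · simp [hi]
  have hHw : H ⬝ₘ w = a • w := funext fun i => by
    rw [hHv]; by_cases hi : i = k
    · subst hi; simp [hwk]
    · simp [hi]
  have hHP : H ∈ subspaceStabilizer P := mem_subspaceStabilizer_iff.mpr fun z hzP => by
    obtain ⟨c, d, rfl⟩ := hmemP.mp hzP
    exact hmemP.mpr ⟨c * (σ a * σ a * σ a), d * a, by
      rw [mulVec_add, mulVec_smul, mulVec_smul, hHk, hHw, smul_smul, smul_smul]⟩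
  obtain ⟨x, hx, hxv⟩ := conj_hom D hg j ha
  rw [← hv] at hxv
  have hvP : v ∈ P := hmemP.mpr ⟨v k, 1, by rw [one_smul, ← hvw]⟩
  have hxP : x ∈ subspaceStabilizer P := mem_subspaceStabilizer_iff.mpr fun z hzP => by
    rw [hxv]; exact P.add_mem (P.smul_mem _ hzP) (P.smul_mem _ hvP)
  have hσa : σ a = a⁻¹ := eq_inv_of_mul_eq_one_right ha
  refine UThree.no_frobenius_two ρ (fun y h => ?_) (fun y h => ?_) (fun y h => ?_)
    (h := ⟨H, hH, hHP⟩) (g₁ := ⟨x, hx, hxP⟩) ?_ ?_ ?_ ?_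
  · -- a fixed coordinate
    rw [hρ] at h ⊢
    simp only [crd, b, Matrix.cons_val_zero, Matrix.cons_val_one] at h ⊢
    replace h := (div_eq_zero_iff.mp h).resolve_right hN0
    have he : ((y : Gl)) ⬝ₘ (Pi.single k 1) = (((y : Gl)) ⬝ₘ (Pi.single k 1)) k • Pi.single k 1 := by
      have := hcrd _ (hpres y _ (hbP 0))
      simp only [b, Matrix.cons_val_zero] at this
      rwa [h, zero_div, zero_smul, add_zero] at this
    have h2 : φ (((y : Gl)) ⬝ₘ (Pi.single k 1)) (((y : Gl)) ⬝ₘ w) = 0 := by rw [iso D y.2.1, hew]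
    rw [he, (semi D).smul_left, single_herm D, one_mul, mul_eq_zero] at h2
    rcases h2 with e | e
    · exact absurd (by rw [he, e, zero_smul]) (hcolne y)
    · exact (map_eq_zero σ).mp e
  · rw [hρ] at h ⊢
    simp only [crd, b, Matrix.cons_val_zero, Matrix.cons_val_one] at h ⊢
    rw [div_eq_zero_iff]; left
    have he : ((y : Gl)) ⬝ₘ w = (φ (((y : Gl)) ⬝ₘ w) w / N) • w := by
      have := hcrd _ (hpres y _ (hbP 1))
      simp only [b, Matrix.cons_val_one, Matrix.cons_val_zero] at this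
      rwa [h, zero_smul, zero_add] at this
    have h2 : φ (((y : Gl)) ⬝ₘ (Pi.single k 1)) (((y : Gl)) ⬝ₘ w) = 0 := by rw [iso D y.2.1, hew]
    rw [he, (semi D).smul_right, mul_eq_zero] at h2
    rcases h2 with e | e
    · rw [map_eq_zero σ] at e
      have hw0 : ((y : Gl)) ⬝ₘ w = 0 := by rw [he, e, zero_smul]
      have := congrFun (gl_mulVec_injective (y : Gl) (hw0.trans (mulVec_zero _).symm))
      obtain ⟨i, hi⟩ := exists_notMem (s := ({k} : Finset (Fin 4))) (by simp)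
      exact absurd ((hwi i (by simpa using hi)).symm.trans (this i)) (hvne i)
    · exact e
  · -- no zero on the diagonal
    rw [hρ] at h
    simp only [crd, b, Matrix.cons_val_zero] at h
    by_cases hym : IsMon ((y : Gl) : Matrix (Fin 4) (Fin 4) F)
    swap
    · exact hz _ y.2.1 hym k k h
    have he := hcrd _ (hpres y _ (hbP 0))
    simp only [b, Matrix.cons_val_zero] at he
    rw [h, zero_smul, zero_add] at he
    obtain ⟨p, hp⟩ := hym k
    obtain ⟨r, hr⟩ := exists_notMem (s := ({k, p} : Finset (Fin 4))) (lt_of_le_of_lt Finset.card_le_two (by norm_num))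
    simp only [Finset.mem_insert, Finset.mem_singleton, not_or] at hr
    have h0 := congrFun he r
    rw [show (((y : Gl)) ⬝ₘ (Pi.single k 1)) r = 0 by rw [mulVec_single_one, col_apply, hp r hr.2], Pi.smul_apply, smul_eq_mul, eq_comm, mul_eq_zero,
      or_iff_left (hwi r hr.1 ▸ hvne r)] at h0
    exact hcolne y (by rw [he, h0, zero_smul])
  · rw [hρ]
    show φ (x ⬝ₘ (Pi.single k 1)) w / N ≠ 0
    rw [hxv, (semi D).add_left, (semi D).smul_left, (semi D).smul_left, hew, mul_zero, zero_add, hvwN, ← hNe,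
      mul_div_cancel_right₀ _ hN0, single_herm D, one_mul]
    refine mul_ne_zero (fun e => h8 ?_) ((map_ne_zero σ).mpr (hvne k))
    rw [sub_eq_zero, hσa] at e
    have ha0 : a ≠ 0 := left_ne_zero_of_mul_eq_one ha
    field_simp at e
    linear_combination (-(a ^ 4) - 1) * e
  · rw [hρ]
    show φ (H ⬝ₘ (Pi.single k 1)) w / N = 0
    rw [hHk, (semi D).smul_left, hew, mul_zero, zero_div]
  · rw [hρ, hρ]
    show ((H ⬝ₘ (Pi.single k 1)) k) ^ 2 ≠ (φ (H ⬝ₘ w) w / N) ^ 2
    rw [hHk, hHw, (semi D).smul_left, ← hNe, mul_div_cancel_right₀ _ hN0, Pi.smul_apply, Pi.single_eq_same,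
      smul_eq_mul, mul_one]
    intro e
    apply h8
    linear_combination (-(a ^ 6)) * e + ((a * σ a) ^ 5 + (a * σ a) ^ 4 + (a * σ a) ^ 3 + (a * σ a) ^ 2 + a * σ a + 1) * ha
  · intro h2
    rw [hρ, hρ]
    show ((H ⬝ₘ (Pi.single k 1)) k) ^ 3 ≠ (φ (H ⬝ₘ w) w / N) ^ 3
    rw [hHk, hHw, (semi D).smul_left, ← hNe, mul_div_cancel_right₀ _ hN0, Pi.smul_apply, Pi.single_eq_same,
      smul_eq_mul, mul_one]
    intro e
    apply h12 h2
    linear_combination (-(a ^ 9)) * e + ((a * σ a) ^ 8 + (a * σ a) ^ 7 + (a * σ a) ^ 6 + (a * σ a) ^ 5 + (a * σ a) ^ 4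
      + (a * σ a) ^ 3 + (a * σ a) ^ 2 + a * σ a + 1) * ha

/-- A diagonal entry of a monomial element is zero or of norm one. -/
theorem mon_entry {y : Gl} (hy : y ∈ K) (hm : IsMon (y : Matrix (Fin 4) (Fin 4) F)) (k : Fin 4) :
    (y ⬝ₘ (Pi.single k 1)) k * σ ((y ⬝ₘ (Pi.single k 1)) k) = 0 ∨
      (y ⬝ₘ (Pi.single k 1)) k * σ ((y ⬝ₘ (Pi.single k 1)) k) = 1 := by
  by_cases h : (y ⬝ₘ (Pi.single k 1)) k = 0
  · left; rw [h, zero_mul]
  · right
    have := col_sum D hy k
    rwa [Finset.sum_eq_single k (fun p _ hp => by rw [mon_col hm h hp, zero_mul]) (by simp)] at this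

/-- A diagonal entry of a conjugate torus element. -/
theorem tor_entry {g : Gl} (hg : g ∈ K) (θ : Fin 4 → F) (hθ : ∀ i, θ i * σ (θ i) = 1) (hp : ∏ i, θ i = 1) (k : Fin 4) :
    ∃ y ∈ K, (y ⬝ₘ (Pi.single k 1)) k =
      ∑ p, θ p * ((g ⬝ₘ (Pi.single p 1)) k * σ ((g ⬝ₘ (Pi.single p 1)) k)) := by
  obtain ⟨y, hy, hyv⟩ := conj_tor D hg θ hθ hp
  refine ⟨y, hy, ?_⟩
  rw [hyv, Finset.sum_apply]
  refine Finset.sum_congr rfl fun p _ => ?_
  rw [Pi.smul_apply, smul_eq_mul, single_herm D]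
  ring

omit D in
/-- The values of the norms of the entries off the monomial group. -/
def Val (σ : F ≃+* F) (K : Subgroup (GL (Fin 4) F)) (x : F) : Prop :=
  ∃ g ∈ K, ¬ IsMon (g : Matrix (Fin 4) (Fin 4) F) ∧
    ∃ k j, ((g : GL (Fin 4) F) : Matrix (Fin 4) (Fin 4) F) k j * σ (((g : GL (Fin 4) F) : Matrix (Fin 4) (Fin 4) F) k j) = x

omit D in
theorem val_mk {g : Gl} (hg : g ∈ K) (hnm : ¬ IsMon (g : Matrix (Fin 4) (Fin 4) F)) (k j : Fin 4) :
    Val σ K ((g ⬝ₘ (Pi.single j 1)) k * σ ((g ⬝ₘ (Pi.single j 1)) k)) :=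
  ⟨g, hg, hnm, k, j, by rw [mulVec_single_one, col_apply]⟩

/-- The constraints on the values. -/
theorem val_step (hz : NoZero K) {x : F} (hx : Val σ K x) {a T : F} (ha : a * σ a = 1) (ha4 : a ^ 4 ≠ 1)
    (hT : T = a ^ 4 + σ a ^ 4) :
    x ≠ 0 ∧ T - 1 + (2 - T) * x ≠ 0 ∧ Val σ K (1 + (T - 2) * x + (2 - T) * x ^ 2) := by
  obtain ⟨g, hg, hnm, k, j, hgx⟩ := hx
  obtain ⟨v, hv⟩ : ∃ v, v = g ⬝ₘ (Pi.single j 1) := ⟨_, rfl⟩
  have hvx : v k * σ (v k) = x := by rw [hv, mulVec_single_one, col_apply, hgx]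
  have hvne : ∀ i, v i ≠ 0 := fun i => hv ▸ hz g hg hnm i j
  have hvk : σ (v k) ≠ 0 := (map_ne_zero σ).mpr (hvne k)
  obtain ⟨b, hb⟩ : ∃ b, b = σ a * σ a * σ a := ⟨_, rfl⟩
  have hμ0 : b - a ≠ 0 := fun e => ha4 (by
    rw [hb, sub_eq_zero] at e
    linear_combination -(a ^ 3) * e + ((a * σ a) * (a * σ a) + a * σ a + 1) * ha)
  obtain ⟨r, hr⟩ := exists_notMem (s := ({k} : Finset (Fin 4))) (by simp)
  obtain ⟨r', hr'⟩ := exists_notMem (s := ({k, r} : Finset (Fin 4))) (lt_of_le_of_lt Finset.card_le_two (by norm_num))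
  simp only [Finset.mem_insert, Finset.mem_singleton, not_or] at hr hr'
  obtain ⟨x₀, hx₀, hxv⟩ := conj_hom D hg j ha
  rw [← hv, ← hb] at hxv
  have hcol : ∀ i, (x₀ ⬝ₘ (Pi.single k 1)) i = (if i = k then a else 0) + (b - a) * σ (v k) * v i := fun i => by
    rw [hxv, single_herm D, one_mul, Pi.add_apply, Pi.smul_apply, Pi.smul_apply, smul_eq_mul, smul_eq_mul]
    by_cases hi : i = k
    · subst hi; simp
    · simp [hi]
  have hxm : ¬ IsMon (x₀ : Matrix (Fin 4) (Fin 4) F) := not_isMon (j := k) (Ne.symm hr'.2)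
    (by rw [hcol, if_neg hr, zero_add]; exact mul_ne_zero (mul_ne_zero hμ0 hvk) (hvne r))
    (by rw [hcol, if_neg hr'.1, zero_add]; exact mul_ne_zero (mul_ne_zero hμ0 hvk) (hvne r'))
  refine ⟨hvx ▸ mul_ne_zero (hvne k) hvk, ?_, ?_⟩
  · intro h0
    obtain ⟨H, hH, hHv⟩ := exists_tor D _ (theta_one D ha k).1 (theta_one D ha k).2
    obtain ⟨u, hu⟩ : ∃ u, u = H ⬝ₘ v := ⟨_, rfl⟩
    have hui : ∀ i, u i = (if i = k then b else a) * v i := fun i => by rw [hu, hHv, hb]
    have huv : φ u v = a + (b - a) * x := by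
      have e1 : ∀ i, u i * σ (v i) = a * (v i * σ (v i)) + (if i = k then (b - a) * x else 0) := fun i => by
        rw [hui]
        split_ifs with hi
        · subst hi; rw [← hvx]; ring
        · ring
      have e2 := col_sum D hg j
      rw [← hv] at e2
      rw [herm_sum D, Finset.sum_congr rfl fun i _ => e1 i, Finset.sum_add_distrib, ← Finset.mul_sum, e2,
        Finset.sum_ite_eq' Finset.univ k fun _ => (b - a) * x, if_pos (Finset.mem_univ k), mul_one]
    obtain ⟨y, hy⟩ : ∃ y, y = x₀⁻¹ * H * g := ⟨_, rfl⟩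
    have hyK : y ∈ K := hy ▸ mul_mem (mul_mem (inv_mem hx₀) hH) hg
    have hyi : ∀ i, (y ⬝ₘ (Pi.single j 1)) i = σ a * u i + σ (b - a) * v i * φ u v := fun i => by
      have h1 := iso D hx₀ (y ⬝ₘ (Pi.single j 1)) (Pi.single i 1)
      rw [show x₀ ⬝ₘ (y ⬝ₘ (Pi.single j 1)) = u by rw [hy, gl_mul_mulVec, gl_mul_mulVec, gl_mulVec_inv_cancel, ← hv, hu],
        hxv, herm_coord D, map_one, mul_one, (semi D).add_right, (semi D).smul_right, (semi D).smul_right,
        herm_coord D, map_one, mul_one, single_herm D, one_mul, map_mul, D.sig.involutive] at h1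
      exact h1.symm
    have hb' : b * σ b = 1 := by
      rw [hb, map_mul, map_mul, D.sig.involutive]
      linear_combination ((a * σ a) * (a * σ a) + a * σ a + 1) * ha
    have ek : σ a * b + σ (b - a) * (a + (b - a) * x) = T - 1 + (2 - T) * x := by
      rw [hT, hb, map_sub, map_mul, map_mul, D.sig.involutive]
      linear_combination x * ((a * σ a) * (a * σ a) + a * σ a + 1) * ha + (x - 1) * ha
    have e0 : (y ⬝ₘ (Pi.single j 1)) k = 0 := by
      rw [hyi, hui, if_pos rfl, huv]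
      linear_combination (v k) * ek + (v k) * h0
    have hfac : σ (b - a) * (a + (b - a) * x) + 1 ≠ 0 := fun e => hμ0 (by
      linear_combination a * h0 - a * e + a * ek - b * ha)
    have hne' : ∀ i, i ≠ k → (y ⬝ₘ (Pi.single j 1)) i ≠ 0 := fun i hi => by
      rw [hyi, hui, if_neg hi, huv,
        show σ a * (a * v i) + σ (b - a) * v i * (a + (b - a) * x) = (σ (b - a) * (a + (b - a) * x) + 1) * v i by
          linear_combination (v i) * ha]
      exact mul_ne_zero hfac (hvne i)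
    exact hz y hyK (not_isMon (Ne.symm hr'.2) (hne' r hr) (hne' r' hr'.1)) k j e0
  · convert val_mk (σ := σ) hx₀ hxm k k using 1
    rw [hcol, if_pos rfl, hT]
    simp only [map_add, map_mul, map_sub, D.sig.involutive, hb]
    linear_combination (-1 : F) * ha - 0 * ha - (σ a * σ a * σ a * σ a + a ^ 4 - 2) * (hvx) -
      ((a * σ a) * (a * σ a) + a * σ a + 1) * (v k * σ (v k)) ^ 2 * ha - (v k * σ (v k)) ^ 2 * ha +
      (2 - a ^ 4 - σ a ^ 4) * (-(x + v k * σ (v k))) * hvx + 2 * (v k * σ (v k)) * ha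

end Cfsg.Agent.Classical.UFour
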