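/-
Stabilisers of frames of four lines are maximal.
-/
import Cfsg.Agent.Lib.Classical.UFour.FrameZero
import Cfsg.Agent.Lib.Classical.UFrameMaximal
import Cfsg.Agent.Lib.Classical.UnitarySmallDim

set_option autoImplicit false
set_option linter.unusedSectionVars false

namespace Cfsg.Agent.Classical.UFour

open Matrix Cfsg.Geo
open Cfsg.Agent.Classical
open Cfsg.Agent.Classical.LMon (IsMon)
open Cfsg.Agent.Classical.UFrame (Data Good supp mem_muF mem_fixF exists_notMem single_smul' iso herm_sum)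

universe u

variable {q : ℕ} {F : Type u} [Field F] [Fintype F] {σ : F ≃+* F}

local notation "φ" => hermForm 4 F q
local notation "Gl" => GL (Fin 4) F
local notation "Vn" => Fin 4 → F
local notation:max g:max " ⬝ₘ " x:max => ((g : Gl) : Matrix (Fin 4) (Fin 4) F) *ᵥ x

theorem nat_of_fixed (hσ : IsUSigma q σ) (hq : q.Prime) {x : F} (hx : σ x = x) :
    CharP F q ∧ ∃ m < q, x = (m : F) := by
  classical
  obtain ⟨p, e, σ', hp, hchar, hqe, he, -⟩ := exists_usigma hσ.card
  haveI := hchar
  have hqp : q = p := by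
    have := (Nat.prime_dvd_prime_iff_eq hp hq).mp (hqe ▸ dvd_pow_self p he.ne')
    exact this.symm
  subst hqp
  refine ⟨hchar, ?_⟩
  have hsub : (Finset.range q).image (fun m : ℕ => (m : F)) ⊆ UFrame.fixF σ := fun t ht => by
    obtain ⟨m, -, rfl⟩ := Finset.mem_image.mp ht
    exact mem_fixF.mpr (map_natCast σ m)
  have hinj : Set.InjOn (fun m : ℕ => (m : F)) (Finset.range q : Set ℕ) := fun a ha b hb h => by
    have := (CharP.natCast_eq_natCast F q).mp h
    simp only [Finset.coe_range, Set.mem_Iio] at ha hb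
    exact this.eq_of_lt_of_lt ha hb
  have heq := Finset.eq_of_subset_of_card_le hsub
    (by rw [Finset.card_image_of_injOn hinj, Finset.card_range, UFrame.card_fixF hσ])
  obtain ⟨m, hm, hmx⟩ := Finset.mem_image.mp (heq.symm ▸ mem_fixF.mpr hx : x ∈ (Finset.range q).image fun m : ℕ => (m : F))
  exact ⟨m, Finset.mem_range.mp hm, hmx.symm⟩

theorem val_fixed (hσ : IsUSigma q σ) {K : Subgroup Gl} {x : F} (hx : Val σ K x) : σ x = x := by
  obtain ⟨g, -, -, k, j, rfl⟩ := hx
  rw [map_mul, hσ.involutive, mul_comm]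

theorem no_nonzero {p : ℕ} [CharP F p] {n m : ℕ} (h : ¬ p ∣ n - m) (hm : m ≤ n) (e : (n : F) = (m : F)) : False := by
  apply h
  rw [← CharP.cast_eq_zero_iff F p, Nat.cast_sub hm, e, sub_self]

variable {K : Subgroup (GL (Fin 4) F)} (D : Data q σ K)

include D

theorem row_val {g : GL (Fin 4) F} (hg : g ∈ K) (hnm : ¬ IsMon (g : Matrix (Fin 4) (Fin 4) F)) (k p : Fin 4) : Val σ K ((g ⬝ₘ (Pi.single p 1)) k * σ ((g ⬝ₘ (Pi.single p 1)) k)) :=
  val_mk hg hnm k p

theorem seed_five {g : GL (Fin 4) F} (hg : g ∈ K) (hnm : ¬ IsMon (g : Matrix (Fin 4) (Fin 4) F)) (hz : NoZero K) (h5 : q = 5) : False := by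
  subst h5
  obtain ⟨a, ha, -, -, hord⟩ := D.sig.exists_norm_one
  have h6 : a ^ 6 = 1 := by
    have := D.sig.apply_eq a
    rw [this, ← pow_succ'] at ha; exact ha
  have ha4 : a ^ 4 ≠ 1 := fun e => by have := Nat.le_of_dvd (by norm_num) (hord 4 e); omega
  have hT : (-1 : F) = a ^ 4 + σ a ^ 4 := by
    rw [D.sig.apply_eq]
    have : (a ^ 4 - 1) * (a ^ 8 + a ^ 4 + 1) = 0 := by linear_combination (a ^ 6 + 1) * h6
    have e := (mul_eq_zero.mp this).resolve_left (sub_ne_zero.mpr ha4)
    linear_combination -e - (a ^ 14 + a ^ 8) * h6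
  obtain ⟨hch, -⟩ := nat_of_fixed D.sig (by norm_num) (map_one σ)
  haveI := hch
  have h0 : (5 : F) = 0 := by exact_mod_cast CharP.cast_eq_zero F 5
  have hstep := fun {x : F} (hx : Val σ K x) => val_step D hz hx ha ha4 hT
  have hne4 : ∀ {x : F}, Val σ K x → x ≠ 4 := fun hx e =>
    (hstep hx).2.1 (by rw [e]; linear_combination 2 * h0)
  have hne3 : ∀ {x : F}, Val σ K x → x ≠ 3 := fun hx e =>
    hne4 (hstep hx).2.2 (by rw [e]; linear_combination 3 * h0)
  have hval : ∀ {x : F}, Val σ K x → x = 1 ∨ x = 2 := fun {x} hx => by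
    obtain ⟨-, m, hm, rfl⟩ := nat_of_fixed D.sig (by norm_num) (val_fixed D.sig hx)
    interval_cases m
    · exact absurd Nat.cast_zero (hstep hx).1
    · exact Or.inl Nat.cast_one
    · exact Or.inr (by norm_num)
    · exact absurd (by norm_num) (hne3 hx)
    · exact absurd (by norm_num) (hne4 hx)
  obtain ⟨x, hxd⟩ : ∃ x : Fin 4 → F, x = fun p => (g ⬝ₘ (Pi.single p 1)) 0 * σ ((g ⬝ₘ (Pi.single p 1)) 0) := ⟨_, rfl⟩
  have hxv : ∀ p, x p = 1 ∨ x p = 2 := fun p => hxd ▸ hval (row_val D hg hnm 0 p)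
  have hs : ∑ p, x p = 1 := hxd ▸ row_sum D hg 0
  obtain ⟨p, r, hpr, hp, hr⟩ : ∃ p r, p ≠ r ∧ x p = 1 ∧ x r = 1 := by
    rw [Fin.sum_univ_four] at hs
    rcases hxv 0 with e0 | e0 <;> rcases hxv 1 with e1 | e1 <;> rcases hxv 2 with e2 | e2 <;> rcases hxv 3 with e3 | e3 <;>
      first
        | exact ⟨0, 1, by decide, e0, e1⟩ | exact ⟨0, 2, by decide, e0, e2⟩ | exact ⟨0, 3, by decide, e0, e3⟩
        | exact ⟨1, 2, by decide, e1, e2⟩ | exact ⟨1, 3, by decide, e1, e3⟩ | exact ⟨2, 3, by decide, e2, e3⟩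
        | (exfalso; rw [e0, e1, e2, e3] at hs; norm_num at hs
           first
             | exact no_nonzero (p := 5) (n := 7) (m := 1) (by decide) (by norm_num) (by exact_mod_cast hs)
             | exact no_nonzero (p := 5) (n := 8) (m := 1) (by decide) (by norm_num) (by exact_mod_cast hs))
  obtain ⟨l, hl⟩ : ∃ l, l = a ^ 4 := ⟨_, rfl⟩
  have hl1 : l * σ l = 1 := by
    rw [hl, map_pow, D.sig.apply_eq]; linear_combination (a ^ 18 + a ^ 12 + a ^ 6 + 1) * h6
  have hl2 : σ l * σ (σ l) = 1 := by rw [← map_mul, hl1, map_one]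
  obtain ⟨y, hy, hyk⟩ := tor_entry D hg (fun i => if i = p then l else if i = r then σ l else 1)
    (fun i => by split_ifs; exacts [hl1, hl2, by rw [map_one, one_mul]]) (by
      rw [← Finset.prod_subset (Finset.subset_univ ({p, r} : Finset (Fin 4))) (fun i _ hi => by
        simp only [Finset.mem_insert, Finset.mem_singleton, not_or] at hi
        simp [hi.1, hi.2]), Finset.prod_pair hpr]
      simp [hpr.symm, hl1]) 0
  have hsum : (y ⬝ₘ (Pi.single 0 1)) 0 = -2 := by
    rw [hyk, Finset.sum_congr rfl fun i _ => show _ = x i + ((if i = p then l - 1 else 0) + (if i = r then σ l - 1 else 0)) * x i by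
      rw [hxd]; dsimp only
      by_cases h1 : i = p
      · subst h1; simp [hpr]; ring
      · by_cases h2 : i = r
        · subst h2; simp [h1]; ring
        · simp [h1, h2]]
    simp only [Finset.sum_add_distrib, add_mul, ite_mul, zero_mul, Finset.sum_ite_eq', Finset.mem_univ, if_true, hs, hp, hr]
    rw [hl, map_pow]
    linear_combination -hT
  by_cases hym : IsMon (y : Matrix (Fin 4) (Fin 4) F)
  · rcases mon_entry D hy hym 0 with e | e <;> rw [hsum, map_neg, map_ofNat] at e
    · exact no_nonzero (F := F) (p := 5) (n := 4) (m := 0) (by decide) (by norm_num) (by push_cast; linear_combination e)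
    · exact no_nonzero (F := F) (p := 5) (n := 4) (m := 1) (by decide) (by norm_num) (by push_cast; linear_combination e)
  · exact hne4 (val_mk hy hym 0 0) (by rw [hsum, map_neg, map_ofNat]; norm_num)

theorem seed_seven {g : GL (Fin 4) F} (hg : g ∈ K) (hnm : ¬ IsMon (g : Matrix (Fin 4) (Fin 4) F)) (hz : NoZero K) (h7 : q = 7) : False := by
  subst h7
  obtain ⟨a, ha, -, -, hord⟩ := D.sig.exists_norm_one
  have h8 : a ^ 8 = 1 := by
    have := D.sig.apply_eq a
    rw [this, ← pow_succ'] at ha; exact ha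
  have ha4 : a ^ 4 ≠ 1 := fun e => by have := Nat.le_of_dvd (by norm_num) (hord 4 e); omega
  have h4 : a ^ 4 = -1 := eq_neg_of_add_eq_zero_left <| (mul_eq_zero.mp
    (show (a ^ 4 - 1) * (a ^ 4 + 1) = 0 by linear_combination h8)).resolve_left (sub_ne_zero.mpr ha4)
  have hσa : σ a = a ^ 7 := D.sig.apply_eq a
  have hT : (-2 : F) = a ^ 4 + σ a ^ 4 := by
    rw [hσa, ← pow_mul, show 7 * 4 = 4 * 7 from rfl, pow_mul, h4]; norm_num
  obtain ⟨hch, -⟩ := nat_of_fixed D.sig (by norm_num) (map_one σ)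
  haveI := hch
  have h0 : (7 : F) = 0 := by exact_mod_cast CharP.cast_eq_zero F 7
  have hstep := fun {x : F} (hx : Val σ K x) => val_step D hz hx ha ha4 hT
  have hne6 : ∀ {x : F}, Val σ K x → x ≠ 6 := fun hx e => (hstep hx).2.1 (by rw [e]; linear_combination 3 * h0)
  have hne4 : ∀ {x : F}, Val σ K x → x ≠ 4 := fun hx e =>
    (hstep (hstep hx).2.2).1 (by rw [e]; linear_combination 7 * h0)
  have hne3 : ∀ {x : F}, Val σ K x → x ≠ 3 := fun hx e =>
    hne4 (hstep hx).2.2 (by rw [e]; linear_combination 3 * h0)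
  have hne5 : ∀ {x : F}, Val σ K x → x ≠ 5 := fun hx e =>
    hne4 (hstep hx).2.2 (by rw [e]; linear_combination 11 * h0)
  have hval : ∀ {x : F}, Val σ K x → x = 1 ∨ x = 2 := fun {x} hx => by
    obtain ⟨-, m, hm, rfl⟩ := nat_of_fixed D.sig (by norm_num) (val_fixed D.sig hx)
    interval_cases m
    · exact absurd Nat.cast_zero (hstep hx).1
    · exact Or.inl Nat.cast_one
    · exact Or.inr (by norm_num)
    · exact absurd (by norm_num) (hne3 hx)
    · exact absurd (by norm_num) (hne4 hx)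
    · exact absurd (by norm_num) (hne5 hx)
    · exact absurd (by norm_num) (hne6 hx)
  obtain ⟨x, hxd⟩ : ∃ x : Fin 4 → F, x = fun p => (g ⬝ₘ (Pi.single p 1)) 0 * σ ((g ⬝ₘ (Pi.single p 1)) 0) := ⟨_, rfl⟩
  have hxv : ∀ p, x p = 1 ∨ x p = 2 := fun p => hxd ▸ hval (row_val D hg hnm 0 p)
  have hs : ∑ p, x p = 1 := hxd ▸ row_sum D hg 0
  have htwo : ∀ p, x p = 2 := by
    rw [Fin.sum_univ_four] at hs
    rcases hxv 0 with e0 | e0 <;> rcases hxv 1 with e1 | e1 <;> rcases hxv 2 with e2 | e2 <;> rcases hxv 3 with e3 | e3 <;>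
      first
        | (intro p; fin_cases p <;> assumption)
        | (exfalso; rw [e0, e1, e2, e3] at hs; norm_num at hs
           first
             | exact no_nonzero (p := 7) (n := 4) (m := 1) (by decide) (by norm_num) (by exact_mod_cast hs)
             | exact no_nonzero (p := 7) (n := 5) (m := 1) (by decide) (by norm_num) (by exact_mod_cast hs)
             | exact no_nonzero (p := 7) (n := 6) (m := 1) (by decide) (by norm_num) (by exact_mod_cast hs)
             | exact no_nonzero (p := 7) (n := 7) (m := 1) (by decide) (by norm_num) (by exact_mod_cast hs))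
  obtain ⟨l, hl1, hl⟩ : ∃ l : F, l * σ l = 1 ∧ l + σ l = 4 := by
    have hsq : (a + σ a) * (a + σ a) = 2 := by
      rw [hσa]
      linear_combination (a ^ 2) * h4 + (a ^ 6 + 2) * h8
    have hfix : σ (a + σ a) = a + σ a := by rw [map_add, D.sig.involutive, add_comm]
    obtain ⟨-, m, hm, hmx⟩ := nat_of_fixed D.sig (by norm_num) hfix
    rw [hmx] at hsq
    have h4or : m = 3 ∨ m = 4 := by
      have : ((m * m : ℕ) : F) = ((2 : ℕ) : F) := by push_cast; exact hsq
      rw [CharP.natCast_eq_natCast F 7, Nat.ModEq] at this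
      interval_cases m <;> simp_all
    rcases h4or with rfl | rfl
    · refine ⟨-a, by rw [map_neg, neg_mul_neg, ha], ?_⟩
      rw [map_neg]; push_cast at hmx; linear_combination -hmx - h0
    · exact ⟨a, ha, by push_cast at hmx; exact hmx⟩
  have hl2 : σ l * σ (σ l) = 1 := by rw [← map_mul, hl1, map_one]
  obtain ⟨y, hy, hyk⟩ := tor_entry D hg ![l, σ l, 1, 1]
    (fun i => by fin_cases i <;> simp [hl1, D.sig.involutive, mul_comm (σ l)]) (by
      simp [Fin.prod_univ_four, hl1]) 0
  have hsum : (y ⬝ₘ (Pi.single 0 1)) 0 = 5 := by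
    rw [hyk, Fin.sum_univ_four]
    have e := fun p => (congrFun hxd p).symm.trans (htwo p)
    simp only [e]
    simp
    linear_combination (2 : F) * hl + h0
  by_cases hym : IsMon (y : Matrix (Fin 4) (Fin 4) F)
  · rcases mon_entry D hy hym 0 with e | e <;> rw [hsum, map_ofNat] at e
    · exact no_nonzero (F := F) (p := 7) (n := 25) (m := 0) (by decide) (by norm_num) (by push_cast; linear_combination e)
    · exact no_nonzero (F := F) (p := 7) (n := 25) (m := 1) (by decide) (by norm_num) (by push_cast; linear_combination e)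
  · exact hne4 (val_mk hy hym 0 0) (by rw [hsum, map_ofNat]; linear_combination 3 * h0)

theorem seed_eleven {g : GL (Fin 4) F} (hg : g ∈ K) (hnm : ¬ IsMon (g : Matrix (Fin 4) (Fin 4) F)) (hz : NoZero K) (h11 : q = 11) : False := by
  subst h11
  obtain ⟨a, ha, -, -, hord⟩ := D.sig.exists_norm_one
  have h12 : a ^ 12 = 1 := by
    have := D.sig.apply_eq a
    rw [this, ← pow_succ'] at ha; exact ha
  have ha4 : a ^ 4 ≠ 1 := fun e => by have := Nat.le_of_dvd (by norm_num) (hord 4 e); omega
  have hT : (-1 : F) = a ^ 4 + σ a ^ 4 := by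
    rw [D.sig.apply_eq]
    have e := (mul_eq_zero.mp (show (a ^ 4 - 1) * (a ^ 8 + a ^ 4 + 1) = 0 by linear_combination h12)).resolve_left
      (sub_ne_zero.mpr ha4)
    linear_combination -e - (a ^ 32 + a ^ 20 + a ^ 8) * h12
  obtain ⟨hch, -⟩ := nat_of_fixed D.sig (by norm_num) (map_one σ)
  haveI := hch
  have h0 : (11 : F) = 0 := by exact_mod_cast CharP.cast_eq_zero F 11
  have hstep := fun {x : F} (hx : Val σ K x) => val_step D hz hx ha ha4 hT
  have hne8 : ∀ {x : F}, Val σ K x → x ≠ 8 := fun hx e => (hstep hx).2.1 (by rw [e]; linear_combination 2 * h0)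
  have hne3 : ∀ {x : F}, Val σ K x → x ≠ 3 := fun hx e =>
    hne8 (hstep hx).2.2 (by rw [e]; linear_combination h0)
  have hne9 : ∀ {x : F}, Val σ K x → x ≠ 9 := fun hx e =>
    hne8 (hstep hx).2.2 (by rw [e]; linear_combination 19 * h0)
  have hne6 : ∀ {x : F}, Val σ K x → x ≠ 6 := fun hx e =>
    hne3 (hstep hx).2.2 (by rw [e]; linear_combination 8 * h0)
  have hne5 : ∀ {x : F}, Val σ K x → x ≠ 5 := fun hx e =>
    hne6 (hstep hx).2.2 (by rw [e]; linear_combination 5 * h0)
  have hne7 : ∀ {x : F}, Val σ K x → x ≠ 7 := fun hx e =>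
    hne6 (hstep hx).2.2 (by rw [e]; linear_combination 11 * h0)
  have hne2 : ∀ {x : F}, Val σ K x → x ≠ 2 := fun hx e =>
    hne7 (hstep hx).2.2 (by rw [e]; ring)
  have hne10 : ∀ {x : F}, Val σ K x → x ≠ 10 := fun hx e =>
    hne7 (hstep hx).2.2 (by rw [e]; linear_combination 24 * h0)
  have hval : ∀ {x : F}, Val σ K x → x = 1 ∨ x = 4 := fun {x} hx => by
    obtain ⟨-, m, hm, rfl⟩ := nat_of_fixed D.sig (by norm_num) (val_fixed D.sig hx)
    interval_cases m
    · exact absurd Nat.cast_zero (hstep hx).1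
    · exact Or.inl Nat.cast_one
    · exact absurd (by norm_num) (hne2 hx)
    · exact absurd (by norm_num) (hne3 hx)
    · exact Or.inr (by norm_num)
    · exact absurd (by norm_num) (hne5 hx)
    · exact absurd (by norm_num) (hne6 hx)
    · exact absurd (by norm_num) (hne7 hx)
    · exact absurd (by norm_num) (hne8 hx)
    · exact absurd (by norm_num) (hne9 hx)
    · exact absurd (by norm_num) (hne10 hx)
  have hs := row_sum D hg 0
  rw [Fin.sum_univ_four] at hs
  rcases hval (row_val D hg hnm 0 0) with e0 | e0 <;> rcases hval (row_val D hg hnm 0 1) with e1 | e1 <;>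
    rcases hval (row_val D hg hnm 0 2) with e2 | e2 <;> rcases hval (row_val D hg hnm 0 3) with e3 | e3 <;>
    (rw [e0, e1, e2, e3] at hs; norm_num at hs
     first
       | exact no_nonzero (p := 11) (n := 4) (m := 1) (by decide) (by norm_num) (by exact_mod_cast hs)
       | exact no_nonzero (p := 11) (n := 7) (m := 1) (by decide) (by norm_num) (by exact_mod_cast hs)
       | exact no_nonzero (p := 11) (n := 10) (m := 1) (by decide) (by norm_num) (by exact_mod_cast hs)
       | exact no_nonzero (p := 11) (n := 13) (m := 1) (by decide) (by norm_num) (by exact_mod_cast hs)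
       | exact no_nonzero (p := 11) (n := 16) (m := 1) (by decide) (by norm_num) (by exact_mod_cast hs))

theorem seed_large {g : GL (Fin 4) F} (hg : g ∈ K) (hnm : ¬ IsMon (g : Matrix (Fin 4) (Fin 4) F)) (hz : NoZero K) (hq : q ≠ 3) (h5 : q ≠ 5) (h7 : q ≠ 7) (h11 : q ≠ 11) : False := by
  classical
  have hq2 := D.sig.two_le
  obtain ⟨a, ha, -, -, hord⟩ := D.sig.exists_norm_one
  have h8 : a ^ 8 ≠ 1 := fun e => by
    have := Nat.le_of_dvd (by norm_num) (hord 8 e)
    have := hord 8 e
    have hq8 : q ≤ 7 := by omega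
    interval_cases q <;> omega
  have h12 : (2 : F) ≠ 0 → a ^ 12 ≠ 1 := fun h2 e => by
    have hodd := D.sig.odd_iff.mpr h2
    have hd := hord 12 e
    have := Nat.le_of_dvd (by norm_num) hd
    have hq11 : q ≤ 11 := by omega
    rw [Nat.odd_iff] at hodd
    interval_cases q <;> omega
  by_cases hone : ∀ y ∈ K, ¬ IsMon (y : Matrix (Fin 4) (Fin 4) F) → ∀ k j,
      (y ⬝ₘ (Pi.single j 1)) k * σ ((y ⬝ₘ (Pi.single j 1)) k) = 1
  swap
  · push Not at hone
    obtain ⟨y, hy, hym, k, j, hne⟩ := hone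
    exact frobenius_seed D hz hy hym ha h8 h12 hne
  have hs := row_sum D hg 0
  simp only [hone g hg hnm 0, Finset.sum_const, Finset.card_univ, Fintype.card_fin, nsmul_eq_mul, mul_one] at hs
  have h3 : (3 : F) = 0 := by push_cast at hs; linear_combination hs
  have h2 : (2 : F) ≠ 0 := fun h2 => one_ne_zero (α := F) (by linear_combination h3 - h2)
  have hodd := D.sig.odd_iff.mpr h2
  have hq9 : 9 ≤ q := by
    obtain ⟨p, e, σ', hp, hchar, hqe, he, -⟩ := exists_usigma D.sig.card
    haveI := hchar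
    have hp3 : p = 3 := by
      have : ((3 : ℕ) : F) = 0 := by exact_mod_cast h3
      exact (Nat.prime_dvd_prime_iff_eq hp Nat.prime_three).mp ((CharP.cast_eq_zero_iff F p 3).mp this)
    subst hp3
    rcases Nat.lt_or_ge e 2 with h | h
    · interval_cases e; exact absurd (hqe.trans (pow_one 3)) hq
    · exact hqe ▸ le_trans (by norm_num) (Nat.pow_le_pow_right (by norm_num : 0 < 3) h)
  obtain ⟨T, hT, hT'⟩ := Finset.exists_mem_notMem_of_card_lt_card
    (s := ({-2, -1, -3} : Finset F)) (t := (UFrame.muF σ).image fun z => z + σ z) (by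
      have h := UFrame.card_trace D.sig (one_ne_zero : (1 : F) ≠ 0)
      simp only [mul_one] at h
      exact lt_of_le_of_lt Finset.card_le_three (by omega))
  obtain ⟨l, hl, rfl⟩ := Finset.mem_image.mp hT
  have hl1 := mem_muF.mp hl
  simp only [Finset.mem_insert, Finset.mem_singleton, not_or] at hT'
  obtain ⟨y, hy, hyk⟩ := tor_entry D hg ![l, σ l, 1, 1]
    (fun i => by fin_cases i <;> simp [hl1, D.sig.involutive, mul_comm (σ l)]) (by
      simp [Fin.prod_univ_four, hl1]) 0
  simp only [hone g hg hnm 0, Fin.sum_univ_four] at hyk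
  simp at hyk
  have hfix : σ (l + σ l + 1 + 1) = l + σ l + 1 + 1 := by
    simp [map_add, D.sig.involutive]; ring
  have key : (l + σ l + 1 + 1) * (l + σ l + 1 + 1) = 0 ∨ (l + σ l + 1 + 1) * (l + σ l + 1 + 1) = 1 := by
    by_cases hym : IsMon (y : Matrix (Fin 4) (Fin 4) F)
    · have := mon_entry D hy hym 0
      rwa [show (y ⬝ₘ (Pi.single 0 1)) 0 = l + σ l + 1 + 1 by simpa using hyk, hfix] at this
    · have := hone y hy hym 0 0
      rw [show (y ⬝ₘ (Pi.single 0 1)) 0 = l + σ l + 1 + 1 by simpa using hyk, hfix] at this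
      exact Or.inr this
  rcases key with e | e
  · exact hT'.1 (by linear_combination mul_self_eq_zero.mp e)
  · rcases mul_self_eq_one_iff.mp e with e | e
    · exact hT'.2.1 (by linear_combination e)
    · exact hT'.2.2 (by linear_combination e)

/-- A good vector off the axes. -/
theorem exists_good {g : GL (Fin 4) F} (hg : g ∈ K) (hnm : ¬ IsMon (g : Matrix (Fin 4) (Fin 4) F)) (hq : q ≠ 3) : ∃ r, Good q σ K r ∧ 2 ≤ (supp r).card := by
  by_cases hz : NoZero K
  · exfalso
    by_cases h5 : q = 5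
    · exact seed_five D hg hnm hz h5
    by_cases h7 : q = 7
    · exact seed_seven D hg hnm hz h7
    by_cases h11 : q = 11
    · exact seed_eleven D hg hnm hz h11
    exact seed_large D hg hnm hz hq h5 h7 h11
  · unfold NoZero at hz
    push Not at hz
    obtain ⟨y, hy, hym, k, j, h0⟩ := hz
    exact good_of_zero D hq hy hym h0

omit D in
/-- Frames give maximal subgroups in dimension four, except for nine elements in the field. -/
theorem frame_isMaximal (hσ : IsUSigma q σ) (hq : q ≠ 3) {t : ℕ} {D : Fin t → Submodule F (Fin 4 → F)}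
    (hD : IsNondegenerateMDecomposition (hermForm 4 F q) 1 D) :
    IsMaximalIn (suGL 4 F q) (decompositionStabilizer D ⊓ suGL 4 F q) := by
  classical
  obtain ⟨B, hBU, hB⟩ := UFrame.exists_frame_coords hσ hD
  refine ⟨lt_of_le_of_ne inf_le_right fun e => hσ.not_su_le_decomp_small (by norm_num) (by norm_num) (t := t)
      (le_of_eq (by have := IsMDecomposition.card_eq hD.decomp; rw [Fintype.card_fin] at this; omega)) hD.decomp
      (inf_eq_right.mp e),
    fun K hHK hKS => or_iff_not_imp_left.mpr fun hne => le_antisymm hKS ?_⟩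
  have hconj : ∀ x : Gl, B⁻¹ * (B * x * B⁻¹) * B = x := fun x => by group
  have hconj' : ∀ x : Gl, B * (B⁻¹ * x * B) * B⁻¹ = x := fun x => by group
  have hsl := specialLinear_normal (ι := Fin 4) (F := F)
  have hin : ∀ x : Gl, x ∈ suGL 4 F q → B * x * B⁻¹ ∈ suGL 4 F q := fun x hx =>
    ⟨(GU 4 F q).mul_mem ((GU 4 F q).mul_mem hBU hx.1) ((GU 4 F q).inv_mem hBU), hsl.conj_mem _ hx.2 B⟩
  have hout : ∀ x : Gl, x ∈ suGL 4 F q → B⁻¹ * x * B ∈ suGL 4 F q := fun x hx => by
    refine ⟨(GU 4 F q).mul_mem ((GU 4 F q).mul_mem ((GU 4 F q).inv_mem hBU) hx.1) hBU, ?_⟩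
    have := hsl.conj_mem _ hx.2 B⁻¹
    rwa [inv_inv] at this
  obtain ⟨g, hgK, hgH⟩ : ∃ g ∈ K, g ∉ decompositionStabilizer D := by
    by_contra hcon
    push Not at hcon
    exact hne (le_antisymm (le_inf hcon hKS) hHK)
  let K' := K.comap (MulAut.conj B).toMonoidHom
  have hK' : ∀ x, x ∈ K' ↔ B * x * B⁻¹ ∈ K := fun x => Iff.rfl
  have hDK : Data q σ K' :=
    { sig := hσ
      npos := le_rfl
      le := fun x hx => by
        have := hout _ (hKS ((hK' x).mp hx))
        rwa [hconj] at this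
      mon := fun x hx hm => (hK' x).mpr (hHK ⟨(hB _).mpr (by rwa [hconj]), hin x hx⟩) }
  obtain ⟨r, hr, hr2⟩ := exists_good hDK (g := B⁻¹ * g * B) ((hK' _).mpr (by rwa [hconj']))
    (fun hm => hgH ((hB g).mpr hm)) hq
  have hfull := UFrame.full_of_good hDK hr hr2
  intro z hz
  have := (hK' _).mp (hfull (hout z hz))
  rwa [hconj'] at this

end Cfsg.Agent.Classical.UFour
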