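/-
Special isometries of a unitary space fixing a subspace, and maximality of the stabiliser of an
anisotropic point in dimension four.
-/
import Cfsg.Agent.Lib.Classical.UMaximalInSL
import Cfsg.Agent.Lib.Classical.UnitaryOvergroup

set_option autoImplicit false
set_option linter.unusedSectionVars false

namespace Cfsg.Agent.Classical.UFour

open Matrix Cfsg.Geo
open Cfsg.Agent.Classical

variable {F : Type*} [Field F] [Fintype F] {n q : ℕ} {σ : F ≃+* F} (hσ : IsUSigma q σ)

include hσ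

/-- An isometry fixing a subspace and carrying one vector to another, corrected to determinant one along
an anisotropic vector orthogonal to both targets. -/
theorem exists_su_move {W : Submodule F (Fin n → F)} {x y a : Fin n → F} (hx : x ∉ W) (hy : y ∉ W)
    (hxy : hermForm n F q y y = hermForm n F q x x)
    (hW : ∀ h ∈ W, hermForm n F q h y = hermForm n F q h x)
    (haW : ∀ h ∈ W, hermForm n F q h a = 0) (hay : hermForm n F q y a = 0) (haa : hermForm n F q a a ≠ 0) :
    ∃ g ∈ suGL n F q, (∀ h ∈ W, (g : Matrix (Fin n) (Fin n) F) *ᵥ h = h) ∧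
      (g : Matrix (Fin n) (Fin n) F) *ᵥ x = y := by
  have hf : IsUnitaryForm σ (hermForm n F q) := hσ.isUnitaryForm
  have hs := semiForm_of_unitary hf
  obtain ⟨γ, hγ, hfix, hγx⟩ := HermWitt.exists_move (UMaxSL.herm hf) (UMaxSL.sigma_ne hf) (W := W) hx hy hxy hW
  obtain ⟨g, hg⟩ : ∃ g : GL (Fin n) F, ∀ v, (g : Matrix (Fin n) (Fin n) F) *ᵥ v = γ v := by
    refine ⟨Matrix.GeneralLinearGroup.toLin.symm (LinearMap.GeneralLinearGroup.ofLinearEquiv γ), fun v => ?_⟩
    rw [← Matrix.toLin'_apply]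
    change (Matrix.GeneralLinearGroup.toLin (Matrix.GeneralLinearGroup.toLin.symm
      (LinearMap.GeneralLinearGroup.ofLinearEquiv γ)) : (Fin n → F) →ₗ[F] (Fin n → F)) v = γ v
    rw [MulEquiv.apply_symm_apply]
    rfl
  have hgi : ∀ u v, hermForm n F q ((g : Matrix (Fin n) (Fin n) F) *ᵥ u) ((g : Matrix (Fin n) (Fin n) F) *ᵥ v)
      = hermForm n F q u v := fun u v => by rw [hg, hg]; exact hγ v u
  have hd0 : (g : Matrix (Fin n) (Fin n) F).det ≠ 0 := ((Matrix.isUnit_iff_isUnit_det _).mp g.isUnit).ne_zero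
  have hN : (g : Matrix (Fin n) (Fin n) F).det * σ (g : Matrix (Fin n) (Fin n) F).det = 1 := by
    have e := congrArg Matrix.det (gram_comp σ hs (g : Matrix (Fin n) (Fin n) F))
    rw [show (fun u v => hermForm n F q ((g : Matrix (Fin n) (Fin n) F) *ᵥ u) ((g : Matrix (Fin n) (Fin n) F) *ᵥ v))
      = hermForm n F q from funext fun u => funext (hgi u),
      Matrix.det_mul, Matrix.det_mul, Matrix.det_transpose] at e
    have e' : ((g : Matrix (Fin n) (Fin n) F).map σ).det = σ (g : Matrix (Fin n) (Fin n) F).det :=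
      (σ.toRingHom.map_det _).symm
    rw [e'] at e
    exact mul_left_cancel₀ (UMaxSL.gram_unit hf).ne_zero (by rw [mul_one]; linear_combination -e)
  obtain ⟨l, hl⟩ : ∃ l, l = ((g : Matrix (Fin n) (Fin n) F).det)⁻¹ := ⟨_, rfl⟩
  have hlσ : l * σ l = 1 := by rw [hl, map_inv₀, ← mul_inv, hN, inv_one]
  obtain ⟨k, hk⟩ : ∃ k, k = (l - 1) / hermForm n F q a a := ⟨_, rfl⟩
  have hka : k * hermForm n F q a a = l - 1 := by rw [hk, div_mul_cancel₀ _ haa]
  have hl0 : l ≠ 0 := by rw [hl]; exact inv_ne_zero hd0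
  obtain ⟨s, hsd, hst⟩ := UMaxSL.exists_map hf a a k (by rw [hka, add_sub_cancel]; exact hl0)
  have hsi : ∀ u v, hermForm n F q ((s : Matrix (Fin n) (Fin n) F) *ᵥ u) ((s : Matrix (Fin n) (Fin n) F) *ᵥ v)
      = hermForm n F q u v := UMaxSL.tv_isometry hf hst (by
    have e1 : σ k * hermForm n F q a a = σ l - 1 := by
      rw [hk, map_div₀, map_sub, map_one, ← hf.herm, div_mul_cancel₀ _ haa]
    refine mul_right_cancel₀ haa ?_
    linear_combination hka + e1 + σ k * hermForm n F q a a * hka + (l - 1) * e1 + hlσ)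
  have hfixa : ∀ z, hermForm n F q z a = 0 → (s : Matrix (Fin n) (Fin n) F) *ᵥ z = z := fun z hz => by
    rw [hst, hz, mul_zero, zero_smul, add_zero]
  refine ⟨s * g, ⟨mem_GU_iff.mpr fun u v => ?_, mem_specialLinear_iff.mpr ?_⟩, fun h hh => ?_, ?_⟩
  · rw [gl_mul_mulVec, gl_mul_mulVec, hsi, hgi]
  · rw [Units.val_mul, Matrix.det_mul, hsd, hka, add_sub_cancel, hl, inv_mul_cancel₀ hd0]
  · rw [gl_mul_mulVec, hg, hfix h hh, hfixa _ (haW h hh)]
  · rw [gl_mul_mulVec, hg, hγx, hfixa _ hay]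

end Cfsg.Agent.Classical.UFour
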