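/-
Two complementary totally isotropic planes: an element moving them gives all transvections with one centre.
-/
import Cfsg.Agent.Lib.Classical.TSPairFull

set_option autoImplicit false
set_option linter.unusedSectionVars false

namespace Cfsg.Agent.Classical.UFour

open Matrix Cfsg.Geo
open Cfsg.Agent.Classical
open Cfsg.Agent.Classical.TSPair (o o_o o_ne IsIso Data Setup In tq off dec' dual dual_one exists_in exists_rank_one mem_of_perp
  inter_zero base_off off_neg eq_or_eq_o f_sub_left f_zero_left symm_zero)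

universe u

variable {ι : Type} [Fintype ι] [DecidableEq ι] {F : Type u} [Field F] {σ : F ≃+* F}
  {f : (ι → F) → (ι → F) → F} {D : Fin 2 → Submodule F (ι → F)} {K : Subgroup (GL ι F)}

/-- An element moves the pair. -/
def Moves (D : Fin 2 → Submodule F (ι → F)) (g : GL ι F) : Prop :=
  ∀ i j, ¬((∀ x ∈ D i, (g : Matrix ι ι F) *ᵥ x ∈ D j) ∧ ∀ x ∈ D (o i), (g : Matrix ι ι F) *ᵥ x ∈ D (o j))

/-- All transvections with a centre in a member. -/
def Centre (σ : F ≃+* F) (f : (ι → F) → (ι → F) → F) (D : Fin 2 → Submodule F (ι → F)) (K : Subgroup (GL ι F)) : Prop :=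
  ∃ (j : Fin 2) (v : ι → F), v ∈ D j ∧ v ≠ 0 ∧ ∀ l : F, l + 1 * σ l = 0 → In K (tq f v l)

/-- Dual bases of the two members. -/
structure Fr (f : (ι → F) → (ι → F) → F) (D : Fin 2 → Submodule F (ι → F)) (i : Fin 2) (v a e z : ι → F) : Prop where
  vD : v ∈ D i
  aD : a ∈ D i
  eD : e ∈ D (o i)
  zD : z ∈ D (o i)
  ev : f e v = 1
  ea : f e a = 0
  zv : f z v = 0
  za : f z a = 1
  exp : ∀ x, x = f x e • v + f x z • a + (f x v • e + f x a • z)

variable (S : Setup σ 1 f D K) (h2 : ∀ i, Module.finrank F (D i) = 2)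

include S h2

theorem swp (x y : ι → F) : f x y = σ (f y x) := by rw [S.data.herm x y, one_mul]

theorem member_exp {i : Fin 2} {v a e z : ι → F} (hv : v ∈ D i) (ha : a ∈ D i) (he : e ∈ D (o i)) (hz : z ∈ D (o i))
    (ev : f e v = 1) (ea : f e a = 0) (zv : f z v = 0) (za : f z a = 1) :
    Fr f D i v a e z := by
  have Δ := S.data
  have ve : f v e = 1 := by rw [swp S h2, ev, map_one]
  have ae : f a e = 0 := by rw [swp S h2, ea, map_zero]
  have vz : f v z = 0 := by rw [swp S h2, zv, map_zero]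
  have az : f a z = 1 := by rw [swp S h2, za, map_one]
  refine ⟨hv, ha, he, hz, ev, ea, zv, za, fun x => ?_⟩
  have hker : ∀ {j : Fin 2} {p r : ι → F}, p ∈ D j → r ∈ D j → ∀ (P R : ι → F), f p P = 1 → f r P = 0 → f p R = 0 →
      f r R = 1 → ∀ y ∈ D j, f y P = 0 → f y R = 0 → y = 0 := by
    intro j p r hp hr P R pP rP pR rR y hy yP yR
    let φ : D j →ₗ[F] F × F :=
      { toFun := fun y => (f (y : ι → F) P, f (y : ι → F) R)
        map_add' := fun x y => by simp [Δ.hs.add_left]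
        map_smul' := fun c x => by simp [Δ.hs.smul_left] }
    have hsurj : Function.Surjective φ := fun ⟨c, d⟩ =>
      ⟨c • ⟨p, hp⟩ + d • ⟨r, hr⟩, by
        show (f (c • p + d • r) P, f (c • p + d • r) R) = (c, d)
        simp [Δ.hs.add_left, Δ.hs.smul_left, pP, rP, pR, rR]⟩
    have hinj : Function.Injective φ := (LinearMap.injective_iff_surjective_of_finrank_eq_finrank
      (by rw [h2, Module.finrank_prod, Module.finrank_self])).mpr hsurj
    have : (⟨y, hy⟩ : D j) = 0 := hinj (by rw [map_zero]; exact Prod.ext yP yR)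
    exact congrArg Subtype.val this
  obtain ⟨b, hb, c, hc, rfl⟩ := dec' Δ i x
  have e1 : b = f b e • v + f b z • a := by
    refine sub_eq_zero.mp (hker hv ha e z ve ae vz az _ ((D i).sub_mem hb ((D i).add_mem ((D i).smul_mem _ hv)
      ((D i).smul_mem _ ha))) ?_ ?_) <;>
    simp [f_sub_left Δ, Δ.hs.add_left, Δ.hs.smul_left, ve, ae, vz, az]
  have e2 : c = f c v • e + f c a • z := by
    refine sub_eq_zero.mp (hker he hz v a ev zv ea za _ ((D _).sub_mem hc ((D _).add_mem ((D _).smul_mem _ he)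
      ((D _).smul_mem _ hz))) ?_ ?_) <;>
    simp [f_sub_left Δ, Δ.hs.add_left, Δ.hs.smul_left, ev, ea, zv, za]
  simp only [Δ.hs.add_left, Δ.ts i b hb v hv, Δ.ts i b hb a ha, Δ.ts _ c hc e he, Δ.ts _ c hc z hz, add_zero, zero_add]
  rw [← e1, ← e2]

theorem exists_fr (i : Fin 2) {v : ι → F} (hv : v ∈ D i) (hv0 : v ≠ 0) : ∃ a e z, Fr f D i v a e z := by
  have Δ := S.data
  obtain ⟨z, hz, hz0, hzv⟩ := exists_in Δ (o i) (m := 1) (Or.inl one_lt_two) ![v]
  obtain ⟨a, ha, haz⟩ := dual_one Δ (o i) hz hz0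
  rw [o_o] at ha
  have hza : f z a = 1 := by rw [swp S h2, haz, map_one]
  have hzv' : f z v = 0 := hzv 0
  obtain ⟨e, he, hea, hev⟩ := dual Δ i ha hv fun c hc => by
    have := hzv'
    rw [← hc, Δ.hs.smul_right, hza, mul_one, map_eq_zero σ] at this
    exact hv0 (by rw [← hc, this, zero_smul])
  exact ⟨a, e, z, member_exp S h2 hv ha he hz hev hea hzv' hza⟩

/-- The torus. -/
theorem torus {i : Fin 2} {v a e z : ι → F} (R : Fr f D i v a e z) {s t : F} (hs : s ≠ 0) (ht : t ≠ 0)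
    (hst : σ (s * t) = s * t) :
    ∃ T ∈ K, (T : Matrix ι ι F) *ᵥ v = s • v ∧ (T : Matrix ι ι F) *ᵥ a = t • a ∧
      (T : Matrix ι ι F) *ᵥ e = (σ s)⁻¹ • e ∧ (T : Matrix ι ι F) *ᵥ z = (σ t)⁻¹ • z := by
  have Δ := S.data
  have hσs : σ s ≠ 0 := (map_ne_zero σ).mpr hs
  have hσt : σ t ≠ 0 := (map_ne_zero σ).mpr ht
  have ve : f v e = 1 := by rw [swp S h2, R.ev, map_one]
  have ae : f a e = 0 := by rw [swp S h2, R.ea, map_zero]
  have vz : f v z = 0 := by rw [swp S h2, R.zv, map_zero]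
  have az : f a z = 1 := by rw [swp S h2, R.za, map_one]
  have vv := Δ.ts i v R.vD v R.vD
  have va := Δ.ts i v R.vD a R.aD
  have av := Δ.ts i a R.aD v R.vD
  have aa := Δ.ts i a R.aD a R.aD
  have ee := Δ.ts _ e R.eD e R.eD
  have ez := Δ.ts _ e R.eD z R.zD
  have ze := Δ.ts _ z R.zD e R.eD
  have zz := Δ.ts _ z R.zD z R.zD
  obtain ⟨g₁, d₁, x₁⟩ := exists_rank_one Δ v e (s - 1) (by rw [ve, mul_one, add_sub_cancel]; exact hs)
  obtain ⟨g₂, d₂, x₂⟩ := exists_rank_one Δ e v ((σ s)⁻¹ - 1) (by rw [R.ev, mul_one, add_sub_cancel]; exact inv_ne_zero hσs)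
  obtain ⟨g₃, d₃, x₃⟩ := exists_rank_one Δ a z (t - 1) (by rw [az, mul_one, add_sub_cancel]; exact ht)
  obtain ⟨g₄, d₄, x₄⟩ := exists_rank_one Δ z a ((σ t)⁻¹ - 1) (by rw [R.za, mul_one, add_sub_cancel]; exact inv_ne_zero hσt)
  obtain ⟨T, hT⟩ : ∃ T, T = g₁ * g₂ * (g₃ * g₄) := ⟨_, rfl⟩
  have hTx : ∀ x, (T : Matrix ι ι F) *ᵥ x =
      (s * f x e) • v + (t * f x z) • a + (((σ s)⁻¹ * f x v) • e + ((σ t)⁻¹ * f x a) • z) := fun x => by
    rw [hT, gl_mul_mulVec, gl_mul_mulVec, gl_mul_mulVec, x₄, x₃, x₂, x₁]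
    simp only [Δ.hs.add_left, Δ.hs.smul_left, ve, ae, vz, az, vv, va, av, aa, ee, ez, ze, zz, R.ev, R.ea, R.zv, R.za]
    conv_lhs => arg 1; arg 1; arg 1; arg 1; rw [R.exp x]
    module
  have hev : ∀ x y, f ((T : Matrix ι ι F) *ᵥ x) ((T : Matrix ι ι F) *ᵥ y) = f x y := fun x y => by
    rw [hTx, hTx]
    conv_rhs => arg 2; rw [R.exp y]
    simp only [Δ.hs.add_left, Δ.hs.add_right, Δ.hs.smul_left, Δ.hs.smul_right, ve, ae, vz, az, vv, va, av, aa, ee, ez,
      ze, zz, R.ev, R.ea, R.zv, R.za, map_mul, map_inv₀, Δ.invol]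
    field_simp
    ring
  refine ⟨T, S.base T hev ?_ ?_, ?_, ?_, ?_, ?_⟩
  · rw [hT, Units.val_mul, Units.val_mul, Units.val_mul, Matrix.det_mul, Matrix.det_mul, Matrix.det_mul, d₁, d₂, d₃, d₄,
      ve, R.ev, az, R.za]
    rw [map_mul] at hst
    field_simp
    linear_combination -hst
  · intro j x hx
    rw [hTx]
    rcases eq_or_eq_o i j with rfl | rfl
    · rw [Δ.ts _ x hx v R.vD, Δ.ts _ x hx a R.aD]
      simp only [mul_zero, zero_smul, add_zero]
      exact add_mem ((D _).smul_mem _ R.vD) ((D _).smul_mem _ R.aD)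
    · rw [Δ.ts _ x hx e R.eD, Δ.ts _ x hx z R.zD]
      simp only [mul_zero, zero_smul, zero_add]
      exact add_mem ((D _).smul_mem _ R.eD) ((D _).smul_mem _ R.zD)
  all_goals
    rw [hTx]
    simp [ve, ae, vz, az, vv, va, av, aa, ee, ez, ze, zz, R.ev, R.ea, R.zv, R.za]

/-- A diagonal element on a transversal line gives a centre. -/
theorem centre_of_diag {i : Fin 2} {v a e z : ι → F} (R : Fr f D i v a e z) {r : F} (hr0 : r ≠ 0) (hr : σ r = r)
    (hr2 : r * r ≠ 1) (hsurj : ∀ c : F, c ≠ 0 → σ c = c → ∃ t, t ≠ 0 ∧ t * σ t = c) {A E : F} (hE : E ≠ 0)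
    (hE' : E + σ E = 0) (hM : In K fun x => tq f v A x + tq f z E x) : Centre σ f D K := by
  have Δ := S.data
  have vz : f v z = 0 := by rw [swp S h2, R.zv, map_zero]
  have vv := Δ.ts i v R.vD v R.vD
  have zz := Δ.ts _ z R.zD z R.zD
  obtain ⟨T, hT, Tv, -, -, Tz⟩ := torus S h2 R (s := 1) (t := r) one_ne_zero hr0 (by rw [one_mul]; exact hr)
  rw [one_smul] at Tv
  rw [hr] at Tz
  have h1 : In K fun x => tq f v A x + tq f z (E * (r⁻¹ * r⁻¹)) x := by
    obtain ⟨g, hg, hgx⟩ := hM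
    refine ⟨T * g * T⁻¹, mul_mem (mul_mem hT hg) (inv_mem hT), fun x => ?_⟩
    rw [gl_mul_mulVec, gl_mul_mulVec, hgx, mulVec_add, gl_mulVec_inv_cancel, mulVec_add]
    simp only [tq, mulVec_smul, Tv, Tz]
    have e1 : f (((T⁻¹ : GL ι F) : Matrix ι ι F) *ᵥ x) v = f x v := by
      conv_rhs => rw [← gl_mulVec_inv_cancel T x, ← Tv, S.iso T hT]
    have e2 : f (((T⁻¹ : GL ι F) : Matrix ι ι F) *ᵥ x) z = r⁻¹ * f x z := by
      conv_lhs => rw [← S.iso T hT, gl_mulVec_inv_cancel, Tz, Δ.hs.smul_right, map_inv₀, hr]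
    rw [e1, e2, smul_smul]
    congr 1
    rw [show E * (r⁻¹ * f x z) * r⁻¹ = E * (r⁻¹ * r⁻¹) * f x z by ring]
  have h2' : In K fun x => tq f v (-A) x + tq f z (-E) x := hM.inv fun x => by
    simp only [tq, Δ.hs.add_left, Δ.hs.smul_left, vv, zz, vz, R.zv, mul_zero, add_zero]
    module
  obtain ⟨E₁, hE₁⟩ : ∃ E₁, E₁ = E * (r⁻¹ * r⁻¹) - E := ⟨_, rfl⟩
  have h3 : In K (tq f z E₁) := (h1.comp h2').congr fun x => by
    simp only [tq, Δ.hs.add_left, Δ.hs.smul_left, vv, zz, vz, R.zv, hE₁]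
    module
  have hE₁0 : E₁ ≠ 0 := fun e => hr2 (by
    rw [hE₁] at e
    have : E * ((r⁻¹ * r⁻¹) - 1) = 0 := by linear_combination e
    have h := (mul_eq_zero.mp this).resolve_left hE
    field_simp at h
    linear_combination -h)
  have hE₁' : E₁ + σ E₁ = 0 := by
    rw [hE₁, map_sub, map_mul, map_mul, map_inv₀, hr]
    linear_combination (r⁻¹ * r⁻¹ - 1) * hE'
  refine ⟨o i, z, R.zD, fun h => one_ne_zero (α := F) (by rw [← R.za, h, f_zero_left Δ]), fun l hl => ?_⟩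
  by_cases hl0 : l = 0
  · exact ⟨1, one_mem K, fun x => by simp [tq, hl0]⟩
  obtain ⟨c, hc⟩ : ∃ c, c = l / E₁ := ⟨_, rfl⟩
  have hcσ : σ c = c := by
    rw [hc, map_div₀, show σ l = -l by linear_combination hl, show σ E₁ = -E₁ by linear_combination hE₁', neg_div_neg_eq]
  obtain ⟨t, ht0, ht⟩ := hsurj c⁻¹ (inv_ne_zero (hc ▸ div_ne_zero hl0 hE₁0)) (by rw [map_inv₀, hcσ])
  obtain ⟨T', hT', -, -, -, Tz'⟩ := torus S h2 R (s := σ t) (t := t) ((map_ne_zero σ).mpr ht0) ht0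
    (by rw [map_mul, Δ.invol, mul_comm])
  have h4 := In.conj_tq S h3 hT'
  rw [Tz', TSPair.tq_smul S] at h4
  rwa [show E₁ * ((σ t)⁻¹ * σ (σ t)⁻¹) = l by
    rw [map_inv₀, Δ.invol, ← mul_inv, mul_comm (σ t), ht, inv_inv, hc, mul_div_cancel₀ _ hE₁0]] at h4

/-- The step from a member point kept in the members. -/
theorem step {r : F} (hr0 : r ≠ 0) (hr : σ r = r) (hr2 : r * r ≠ 1)
    (hsurj : ∀ c : F, c ≠ 0 → σ c = c → ∃ t, t ≠ 0 ∧ t * σ t = c) (hno : ¬ Centre σ f D K)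
    {k : GL ι F} (hk : k ∈ K) {i j : Fin 2} {v : ι → F} (hv : v ∈ D i) (hv0 : v ≠ 0)
    (hkv : (k : Matrix ι ι F) *ᵥ v ∈ D j) :
    (∀ x ∈ D i, (k : Matrix ι ι F) *ᵥ x ∈ D j) ∧
      ∃ z ∈ D (o i), z ≠ 0 ∧ (k : Matrix ι ι F) *ᵥ z ∈ D (o j) := by
  have Δ := S.data
  have hi := S.iso k hk
  obtain ⟨v', hv'⟩ : ∃ v', v' = (k : Matrix ι ι F) *ᵥ v := ⟨_, rfl⟩
  rw [← hv'] at hkv
  have hv'0 : v' ≠ 0 := fun e => hv0 (gl_mulVec_injective k ((hv'.symm.trans e).trans (mulVec_zero _).symm))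
  obtain ⟨a, e, z, R⟩ := exists_fr S h2 i hv hv0
  obtain ⟨a', e', z', R'⟩ := exists_fr S h2 j hkv hv'0
  have vz : f v z = 0 := by rw [swp S h2, R.zv, map_zero]
  have vz' : f v' z' = 0 := by rw [swp S h2, R'.zv, map_zero]
  have az : f a z = 1 := by rw [swp S h2, R.za, map_one]
  have az' : f a' z' = 1 := by rw [swp S h2, R'.za, map_one]
  have vv' := Δ.ts j v' hkv v' hkv
  have av' := Δ.ts j a' R'.aD v' hkv
  have va' := Δ.ts j v' hkv a' R'.aD
  have z'z' := Δ.ts _ z' R'.zD z' R'.zD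
  obtain ⟨U, hU⟩ : ∃ U, U = (k : Matrix ι ι F) *ᵥ z := ⟨_, rfl⟩
  have hUv : f U v' = 0 := by rw [hU, hv', hi, R.zv]
  have hvU : f v' U = 0 := by rw [swp S h2, hUv, map_zero]
  have hUU : f U U = 0 := by rw [hU, hi, Δ.ts _ z R.zD z R.zD]
  obtain ⟨α, β, γ, hUe⟩ : ∃ α β γ : F, U = α • v' + β • a' + γ • z' := ⟨_, _, _, by
    conv_lhs => rw [R'.exp U, hUv, zero_smul, zero_add]⟩
  have hX : ∀ m, In K (off σ 1 f v' U m) := fun m => by
    rw [hv', hU]
    exact In.conj_off S (base_off S i hv R.zD vz m) hk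
  have hnoc : ∀ d : F, d ≠ 0 → ¬ ∀ m, In K fun x => ((m * σ d - σ m * d) * f x v') • v' := by
    intro d hd h
    refine hno ⟨j, v', hkv, hv'0, fun l hl => ?_⟩
    obtain ⟨t, ht⟩ := S.split l hl
    refine (h (t / σ d)).congr fun x => ?_
    have hσd : σ d ≠ 0 := (map_ne_zero σ).mpr hd
    simp only [tq, map_div₀, Δ.invol]
    rw [div_mul_cancel₀ _ hσd, div_mul_cancel₀ _ hd, ← ht, one_mul]
  have hβ : β = 0 := by
    by_contra hβ
    refine hnoc β hβ fun m => ?_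
    obtain ⟨y, hy, hyx⟩ := base_off S j hkv R'.zD vz' 1
    have hyv : (y : Matrix ι ι F) *ᵥ v' = v' := by rw [hyx, off, vz', vv']; simp
    have hyU : (y : Matrix ι ι F) *ᵥ U = U + β • v' := by
      rw [hyx, off, hUv, mul_zero, zero_smul, add_zero, hUe]
      simp only [Δ.hs.add_left, Δ.hs.smul_left, vz', az', z'z']
      module
    have h1 := In.conj_off S (hX m) hy
    rw [hyv, hyU] at h1
    refine (h1.comp (off_neg S vv' hUU hvU (hX m))).congr fun x => ?_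
    simp only [off, Δ.hs.add_left, Δ.hs.add_right, Δ.hs.smul_left, Δ.hs.smul_right, vv', hUU, hvU, hUv, map_neg]
    module
  have hUe' : U = α • v' + γ • z' := by rw [hUe, hβ, zero_smul, add_zero]
  have hα : α = 0 := by
    by_contra hα
    refine hnoc α hα fun m => ?_
    refine ((hX m).comp (base_off S j hkv R'.zD vz' (-(m * σ γ)))).congr fun x => ?_
    simp only [off, hUe', Δ.hs.add_left, Δ.hs.add_right, Δ.hs.smul_left, Δ.hs.smul_right, vv', z'z', vz', R'.zv,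
      map_neg, map_mul, Δ.invol]
    module
  rw [hα, zero_smul, zero_add] at hUe'
  have hz0 : z ≠ 0 := fun h => one_ne_zero (α := F) (by rw [← R.za, h, f_zero_left Δ])
  refine ⟨?_, z, R.zD, hz0, by rw [← hU, hUe']; exact Submodule.smul_mem _ _ R'.zD⟩
  have hγ : γ ≠ 0 := fun h => hz0 (gl_mulVec_injective k (show (k : Matrix ι ι F) *ᵥ z = (k : Matrix ι ι F) *ᵥ 0 by
    rw [← hU, hUe', h, zero_smul, mulVec_zero]))
  obtain ⟨p, y, w, hka⟩ : ∃ p y w : F, (k : Matrix ι ι F) *ᵥ a = p • v' + y • a' + w • z' := ⟨_, _, _, by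
    conv_lhs => rw [R'.exp ((k : Matrix ι ι F) *ᵥ a), show f ((k : Matrix ι ι F) *ᵥ a) v' = 0 by
      rw [hv', hi, Δ.ts i a R.aD v hv], zero_smul, zero_add]⟩
  have hy : y * σ γ = 1 := by
    have h : f ((k : Matrix ι ι F) *ᵥ a) ((k : Matrix ι ι F) *ᵥ z) = 1 := by rw [hi, az]
    rw [← hU, hka, hUe'] at h
    simp only [Δ.hs.add_left, Δ.hs.smul_left, Δ.hs.smul_right, vz', az', z'z'] at h
    linear_combination h
  by_cases hw : w = 0
  · intro x hx
    rw [R.exp x, Δ.ts i x hx v hv, Δ.ts i x hx a R.aD, zero_smul, zero_smul, add_zero, add_zero, mulVec_add,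
      mulVec_smul, mulVec_smul, ← hv', hka, hw, zero_smul, add_zero]
    exact add_mem (Submodule.smul_mem _ _ hkv)
      (Submodule.smul_mem _ _ (add_mem (Submodule.smul_mem _ _ hkv) (Submodule.smul_mem _ _ R'.aD)))
  exfalso
  have hy0 : y ≠ 0 := left_ne_zero_of_mul_eq_one hy
  obtain ⟨T, hT, Tv, Ta, -, Tz⟩ := torus S h2 R (s := 1) (t := r) one_ne_zero hr0 (by rw [one_mul]; exact hr)
  obtain ⟨T', hT', Tv', Ta', -, Tz'⟩ := torus S h2 R' (s := 1) (t := r) one_ne_zero hr0 (by rw [one_mul]; exact hr)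
  rw [one_smul] at Tv Tv'
  rw [hr] at Tz Tz'
  obtain ⟨n, hn⟩ : ∃ n, n = k * T * k⁻¹ * T'⁻¹ := ⟨_, rfl⟩
  have hnK : n ∈ K := hn ▸ mul_mem (mul_mem (mul_mem hk hT) (inv_mem hk)) (inv_mem hT')
  have inv_of : ∀ {g : GL ι F} {x y : ι → F}, (g : Matrix ι ι F) *ᵥ x = y →
      ((g⁻¹ : GL ι F) : Matrix ι ι F) *ᵥ y = x := fun {g x y} h => by rw [← h, gl_inv_mulVec_cancel]
  have nv : (n : Matrix ι ι F) *ᵥ v' = v' := by
    rw [hn, gl_mul_mulVec, gl_mul_mulVec, gl_mul_mulVec, inv_of Tv', inv_of hv'.symm, Tv, ← hv']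
  have nz : (n : Matrix ι ι F) *ᵥ z' = z' := by
    have e1 : ((T'⁻¹ : GL ι F) : Matrix ι ι F) *ᵥ z' = r • z' :=
      inv_of (by rw [mulVec_smul, Tz', smul_smul, mul_inv_cancel₀ hr0, one_smul])
    have e2 : ((k⁻¹ : GL ι F) : Matrix ι ι F) *ᵥ z' = γ⁻¹ • z :=
      inv_of (by rw [mulVec_smul, ← hU, hUe', smul_smul, inv_mul_cancel₀ hγ, one_smul])
    rw [hn, gl_mul_mulVec, gl_mul_mulVec, gl_mul_mulVec, e1, mulVec_smul, e2]
    simp only [mulVec_smul, Tz, ← hU, hUe', smul_smul]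
    nth_rw 2 [← one_smul F z']
    congr 1
    field_simp
  have na : (n : Matrix ι ι F) *ᵥ a' = a' + (p / y * (1 - r⁻¹)) • v' + (w / y * (1 - r⁻¹ * r⁻¹)) • z' := by
    have e1 : ((T'⁻¹ : GL ι F) : Matrix ι ι F) *ᵥ a' = r⁻¹ • a' :=
      inv_of (by rw [mulVec_smul, Ta', smul_smul, inv_mul_cancel₀ hr0, one_smul])
    have e2 : ((k⁻¹ : GL ι F) : Matrix ι ι F) *ᵥ a' = y⁻¹ • a + (-(y⁻¹ * p)) • v + (-(y⁻¹ * w * γ⁻¹)) • z :=
      inv_of (by
        rw [mulVec_add, mulVec_add, mulVec_smul, mulVec_smul, mulVec_smul, ← hv', ← hU, hUe', hka]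
        match_scalars <;> field_simp <;> ring)
    rw [hn, gl_mul_mulVec, gl_mul_mulVec, gl_mul_mulVec, e1, mulVec_smul, e2]
    simp only [mulVec_add, mulVec_smul, Tv, Ta, Tz, ← hv', ← hU, hUe', hka]
    match_scalars <;> field_simp <;> ring
  have hni := S.iso n hnK
  obtain ⟨B, hB⟩ : ∃ B, B = p / y * (1 - r⁻¹) := ⟨_, rfl⟩
  obtain ⟨E, hE⟩ : ∃ E, E = w / y * (1 - r⁻¹ * r⁻¹) := ⟨_, rfl⟩
  rw [← hB, ← hE] at na
  have hE0 : E ≠ 0 := hE ▸ mul_ne_zero (div_ne_zero hw hy0) (fun h => hr2 (by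
    field_simp at h; linear_combination h))
  obtain ⟨A, C, ne⟩ : ∃ A C : F, (n : Matrix ι ι F) *ᵥ e' = e' + A • v' + C • z' := by
    obtain ⟨d, hd⟩ : ∃ d, d = (n : Matrix ι ι F) *ᵥ e' - e' := ⟨_, rfl⟩
    have d1 : f d v' = 0 := by
      have h := hni e' v'
      rw [nv] at h
      rw [hd, f_sub_left Δ, h, sub_self]
    have d2 : f d z' = 0 := by
      have h := hni e' z'
      rw [nz] at h
      rw [hd, f_sub_left Δ, h, sub_self]
    refine ⟨f d e', f d a', ?_⟩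
    have := R'.exp d
    rw [d1, d2, zero_smul, zero_smul, add_zero, zero_add] at this
    rw [show (n : Matrix ι ι F) *ᵥ e' = e' + d by rw [hd, add_sub_cancel], add_assoc, ← this]
  have ve' : f v' e' = 1 := by rw [swp S h2, R'.ev, map_one]
  have ae' : f a' e' = 0 := by rw [swp S h2, R'.ea, map_zero]
  have e'e' := Δ.ts _ e' R'.eD e' R'.eD
  have e'z' := Δ.ts _ e' R'.eD z' R'.zD
  have z'e' := Δ.ts _ z' R'.zD e' R'.eD
  have aa' := Δ.ts j a' R'.aD a' R'.aD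
  have hEs : E + σ E = 0 := by
    have h := hni a' a'
    rw [na] at h
    simp only [Δ.hs.add_left, Δ.hs.add_right, Δ.hs.smul_left, Δ.hs.smul_right, vv', av', va', aa', z'z', vz', R'.zv,
      az', R'.za] at h
    linear_combination h
  have hCB : C + σ B = 0 := by
    have h := hni e' a'
    rw [na, ne] at h
    simp only [Δ.hs.add_left, Δ.hs.add_right, Δ.hs.smul_left, Δ.hs.smul_right, vv', va', R'.ev, R'.ea, vz', R'.zv,
      R'.za, e'z', z'z'] at h
    linear_combination h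
  have hnx : ∀ x, (n : Matrix ι ι F) *ᵥ x =
      x + ((A * f x v' + B * f x z') • v' + (C * f x v' + E * f x z') • z') := fun x => by
    conv_lhs => rw [R'.exp x]
    conv_rhs => arg 1; rw [R'.exp x]
    simp only [mulVec_add, mulVec_smul, nv, nz, na, ne]
    module
  refine hno (centre_of_diag S h2 R' hr0 hr hr2 hsurj hE0 hEs (A := A) ?_)
  have hN : In K fun x => (A * f x v' + B * f x z') • v' + (C * f x v' + E * f x z') • z' := ⟨n, hnK, hnx⟩
  refine (hN.comp (base_off S j hkv R'.zD vz' (-B))).congr fun x => ?_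
  simp only [off, tq, Δ.hs.add_left, Δ.hs.smul_left, vv', z'z', vz', R'.zv, map_neg]
  rw [show C = -σ B by linear_combination hCB]
  module

/-- An element moving the pair gives a centre. -/
theorem centre_of_moving {r θ : F} (hr0 : r ≠ 0) (hr : σ r = r) (hr2 : r * r ≠ 1) (hθ : σ θ ≠ θ)
    (hsurj : ∀ c : F, c ≠ 0 → σ c = c → ∃ t, t ≠ 0 ∧ t * σ t = c) {g : GL ι F} (hg : g ∈ K) (hgn : Moves D g) :
    Centre σ f D K := by
  by_contra hno
  have Δ := S.data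
  have hfix : ∀ k ∈ K, Moves D k → ∀ (i j : Fin 2) (v : ι → F), v ∈ D i → v ≠ 0 → (k : Matrix ι ι F) *ᵥ v ∉ D j := by
    intro k hk hkn i j v hv hv0 h
    obtain ⟨h1, z, hz, hz0, hkz⟩ := step S h2 hr0 hr hr2 hsurj hno hk hv hv0 h
    exact hkn i j ⟨h1, (step S h2 hr0 hr hr2 hsurj hno hk hz hz0 hkz).1⟩
  have keep : ∀ k ∈ K, ∀ v ∈ D 0, v ≠ 0 → (k : Matrix ι ι F) *ᵥ v = v →
      ∀ i, ∀ x ∈ D i, (k : Matrix ι ι F) *ᵥ x ∈ D i := by
    intro k hk v hv hv0 hkv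
    by_cases hkn : Moves D k
    · exact absurd (by rw [hkv]; exact hv) (hfix k hk hkn 0 0 v hv hv0)
    unfold Moves at hkn
    push Not at hkn
    obtain ⟨i, j, h1, h2'⟩ := hkn
    have hij : i = j := by
      rcases eq_or_eq_o i 0 with e | e
      · rcases eq_or_eq_o i j with e' | e'
        · exact e'.symm
        · exfalso
          have := h1 v (e ▸ hv)
          rw [hkv, e', ← e] at this
          exact hv0 (inter_zero Δ 0 hv this)
      · rcases eq_or_eq_o i j with e' | e'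
        · exact e'.symm
        · exfalso
          have := h2' v (e ▸ hv)
          rw [hkv, e', o_o] at this
          exact hv0 (inter_zero Δ 0 hv (by rwa [e, o_o]))
    subst hij
    intro i' x hx
    rcases eq_or_eq_o i i' with rfl | rfl
    · exact h1 x hx
    · exact h2' x hx
  obtain ⟨v, hv, hv0, -⟩ := exists_in Δ 0 (m := 0) (Or.inl two_pos) Fin.elim0
  obtain ⟨a, ha, b, hb, hgv⟩ := dec' Δ 0 ((g : Matrix ι ι F) *ᵥ v)
  have hb0 : b ≠ 0 := fun e => hfix g hg hgn 0 0 v hv hv0 (by rw [hgv, e, add_zero]; exact ha)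
  have ha0 : a ≠ 0 := fun e => hfix g hg hgn 0 (o 0) v hv hv0 (by rw [hgv, e, zero_add]; exact hb)
  have hback : ((g⁻¹ : GL ι F) : Matrix ι ι F) *ᵥ (a + b) = v := by rw [← hgv, gl_inv_mulVec_cancel]
  have hpull : ∀ p ∈ D 0, p ≠ 0 → ∀ j, ((g⁻¹ : GL ι F) : Matrix ι ι F) *ᵥ p ∉ D j := fun p hp hp0 j h => by
    refine hfix g hg hgn j 0 _ h (fun e => hp0 ?_) (by rw [gl_mulVec_inv_cancel]; exact hp)
    rw [← gl_mulVec_inv_cancel g p, e, mulVec_zero]
  by_cases hab : f a b = 0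
  · obtain ⟨P, hP⟩ : ∃ P, P = ((g⁻¹ : GL ι F) : Matrix ι ι F) *ᵥ a := ⟨_, rfl⟩
    obtain ⟨R, hR⟩ : ∃ R, R = ((g⁻¹ : GL ι F) : Matrix ι ι F) *ᵥ b := ⟨_, rfl⟩
    have hvPR : v = P + R := by rw [hP, hR, ← mulVec_add, hback]
    have hX : ∀ m, In K (off σ 1 f P R m) := fun m => hP ▸ hR ▸
      In.conj_off S (base_off S 0 ha hb hab m) (inv_mem hg)
    have hvP : f v P = 0 := by
      rw [← hback, hP, S.iso g⁻¹ (inv_mem hg), Δ.hs.add_left, Δ.ts 0 a ha a ha, symm_zero Δ hab, add_zero]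
    have hvR : f v R = 0 := by
      rw [← hback, hR, S.iso g⁻¹ (inv_mem hg), Δ.hs.add_left, hab, Δ.ts _ b hb b hb, add_zero]
    have hm : ∀ m, ∀ x ∈ D 0, (m * f x R) • P + (-(1 * σ m) * f x P) • R ∈ D 0 := fun m x hx => by
      obtain ⟨k, hk, hkx⟩ := hX m
      have h := keep k hk v hv hv0 (by rw [hkx, off, hvP, hvR]; simp) 0 x hx
      rw [hkx] at h
      simpa [off] using (D 0).sub_mem h hx
    have hP0 : ∀ x ∈ D 0, f x R • P ∈ D 0 := fun x hx => by
      have h := (D 0).sub_mem (hm θ x hx) ((D 0).smul_mem (σ θ) (hm 1 x hx))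
      rw [map_one] at h
      rw [show (θ * f x R) • P + (-(1 * σ θ) * f x P) • R - σ θ • ((1 * f x R) • P + (-(1 * 1) * f x P) • R) =
        (θ - σ θ) • (f x R • P) by module] at h
      have := (D 0).smul_mem (θ - σ θ)⁻¹ h
      rwa [smul_smul (θ - σ θ)⁻¹, inv_mul_cancel₀ (sub_ne_zero.mpr (Ne.symm hθ)), one_smul] at this
    by_cases hPR : ∀ x ∈ D 0, f x R = 0
    · exact hpull a ha ha0 0 (hP ▸ (by
        rw [show P = v - R by rw [hvPR, add_sub_cancel_right]]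
        exact (D 0).sub_mem hv (mem_of_perp Δ 0 hPR)))
    push Not at hPR
    obtain ⟨x, hx, hne⟩ := hPR
    have := (D 0).smul_mem (f x R)⁻¹ (hP0 x hx)
    rw [smul_smul, inv_mul_cancel₀ hne, one_smul, hP] at this
    exact hpull a ha ha0 0 this
  · have hba : f b a ≠ 0 := fun e => hab (symm_zero Δ e)
    obtain ⟨a', ha', ha'0, ha'b⟩ := exists_in Δ 0 (m := 1) (Or.inl one_lt_two) ![b]
    have ha'b' : f a' b = 0 := ha'b 0
    have hba' : f b a' = 0 := symm_zero Δ ha'b'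
    obtain ⟨z, hz, hza, hza'⟩ := dual Δ 0 ha ha' fun c e => by
      rw [← e, Δ.hs.smul_left, mul_eq_zero, or_iff_left hab] at ha'b'
      exact ha'0 (by rw [← e, ha'b', zero_smul])
    obtain ⟨e, he⟩ : ∃ e, e = (f b a)⁻¹ • b := ⟨_, rfl⟩
    have R := member_exp S h2 ha ha' (he ▸ (D _).smul_mem _ hb) hz
      (by rw [he, Δ.hs.smul_left, inv_mul_cancel₀ hba]) (by rw [he, Δ.hs.smul_left, hba', mul_zero]) hza hza'
    obtain ⟨T, hT, Ta, Ta', Te, Tz⟩ := torus S h2 R (s := 1) (t := r) one_ne_zero hr0 (by rw [one_mul]; exact hr)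
    rw [one_smul] at Ta
    rw [map_one, inv_one, one_smul] at Te
    rw [hr] at Tz
    have hbe : b = f b a • e := by rw [he, smul_smul, mul_inv_cancel₀ hba, one_smul]
    have Tb : (T : Matrix ι ι F) *ᵥ b = b := by rw [hbe, mulVec_smul, Te]
    obtain ⟨k, hk⟩ : ∃ k, k = g⁻¹ * T * g := ⟨_, rfl⟩
    have hkK : k ∈ K := hk ▸ mul_mem (mul_mem (inv_mem hg) hT) hg
    have hkv : (k : Matrix ι ι F) *ᵥ v = v := by
      rw [hk, gl_mul_mulVec, gl_mul_mulVec, hgv, mulVec_add, Ta, Tb, hback]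
    have hkeep := keep k hkK v hv hv0 hkv
    obtain ⟨P, hP⟩ : ∃ P, P = ((g⁻¹ : GL ι F) : Matrix ι ι F) *ᵥ a' := ⟨_, rfl⟩
    have hkP : (k : Matrix ι ι F) *ᵥ P = r • P := by
      rw [hk, gl_mul_mulVec, gl_mul_mulVec, hP, gl_mulVec_inv_cancel, Ta', mulVec_smul]
    obtain ⟨p₀, hp₀, p₁, hp₁, hPp⟩ := dec' Δ 0 P
    have heig : (k : Matrix ι ι F) *ᵥ p₀ = r • p₀ := by
      have e1 : (k : Matrix ι ι F) *ᵥ p₀ - r • p₀ = r • p₁ - (k : Matrix ι ι F) *ᵥ p₁ := by
        have := hkP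
        rw [hPp, mulVec_add, smul_add] at this
        rw [sub_eq_sub_iff_add_eq_add, add_comm (r • p₁)]
        exact this
      exact sub_eq_zero.mp (inter_zero Δ 0 ((D 0).sub_mem (hkeep 0 p₀ hp₀) ((D 0).smul_mem _ hp₀))
        (e1 ▸ (D _).sub_mem ((D _).smul_mem _ hp₁) (hkeep _ p₁ hp₁)))
    obtain ⟨y, hy⟩ : ∃ y, y = (g : Matrix ι ι F) *ᵥ p₀ := ⟨_, rfl⟩
    have hTy : (T : Matrix ι ι F) *ᵥ y = r • y := by
      rw [hy, ← mulVec_smul, ← heig, hk, gl_mul_mulVec, gl_mul_mulVec, gl_mulVec_inv_cancel]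
    have hya : y = f y z • a' := by
      have hr1 : r ≠ 1 := fun e => hr2 (by rw [e, one_mul])
      have hri : r⁻¹ ≠ r := fun e => hr2 (by
        calc r * r = r * r⁻¹ := by rw [e]
          _ = 1 := mul_inv_cancel₀ hr0)
      have c1 : f y e = 0 := by
        have h := S.iso T hT y e
        rw [hTy, Te, Δ.hs.smul_left] at h
        have : (r - 1) * f y e = 0 := by linear_combination h
        exact (mul_eq_zero.mp this).resolve_left (sub_ne_zero.mpr hr1)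
      have c2 : f y a = 0 := by
        have h := S.iso T hT y a
        rw [hTy, Ta, Δ.hs.smul_left] at h
        have : (r - 1) * f y a = 0 := by linear_combination h
        exact (mul_eq_zero.mp this).resolve_left (sub_ne_zero.mpr hr1)
      have c3 : f y a' = 0 := by
        have h := S.iso T hT y a'
        rw [hTy, Ta', Δ.hs.smul_left, Δ.hs.smul_right, hr] at h
        have : (r * r - 1) * f y a' = 0 := by linear_combination h
        exact (mul_eq_zero.mp this).resolve_left (sub_ne_zero.mpr hr2)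
      conv_lhs => rw [R.exp y, c1, c2, c3, zero_smul, zero_smul, zero_smul, zero_add, add_zero, add_zero]
    by_cases hp₀0 : p₀ = 0
    · exact hpull a' ha' ha'0 (o 0) (hP ▸ (by rw [hPp, hp₀0, zero_add]; exact hp₁))
    · refine hfix g hg hgn 0 0 p₀ hp₀ hp₀0 (hy ▸ ?_)
      rw [hya]
      exact (D 0).smul_mem _ ha'

end Cfsg.Agent.Classical.UFour
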