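/-
Two complementary totally isotropic planes give maximal subgroups of the special unitary group in dimension four.
-/
import Cfsg.Agent.Lib.Classical.UFour.PairSeed
import Cfsg.Agent.Lib.Classical.TSPairMaximal
import Cfsg.Agent.Lib.Classical.UFrameField

set_option autoImplicit false
set_option linter.unusedSectionVars false
set_option linter.style.haveILetI false

namespace Cfsg.Agent.Classical.UFour

open Matrix Cfsg.Geo
open Cfsg.Agent.Classical

variable {F : Type*} [Field F]

/-- The stabilisers of pairs of planes are maximal. -/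
theorem pair_isMaximal [Fintype F] {n q : ℕ} {σ : F ≃+* F} (hσ : IsUSigma q σ) {k : ℕ} (hk : k = 2) (hq : 4 ≤ q) (hn : 4 ≤ n)
    (D : Fin 2 → Submodule F (Fin n → F)) (hD : IsMDecomposition k D)
    (hts : ∀ i, IsTotallySingularFor (hermForm n F q) (D i)) :
    IsMaximalIn (suGL n F q) (decompositionStabilizer D ⊓ suGL n F q) := by
  classical
  have hh := hσ.isUnitaryForm (n := n)
  have Δ : TSPair.Data σ 1 (hermForm n F q) D :=
    { hs := semiForm_of_unitary hh
      herm := fun v w => by rw [one_mul]; exact hh.herm v w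
      eps := one_mul 1
      eps_fix := map_one σ
      invol := hh.involutive
      nd := fun v h => by
        by_contra hv
        obtain ⟨⟨x, hx⟩, -⟩ := hh.nondegenerate v hv
        exact hx (h x)
      ts := hts
      dec := TSPair.dec_of hD
      dim := ⟨k, by omega, hD.finrank_eq⟩ }
  obtain ⟨θ, hθ⟩ : ∃ θ, σ θ ≠ θ := by
    by_contra hcon
    push Not at hcon
    exact hh.ne_refl (RingEquiv.ext hcon)
  have hl0 : θ - σ θ ≠ 0 := sub_ne_zero.mpr (Ne.symm hθ)
  have hl : θ - σ θ + σ (θ - σ θ) = 0 := by rw [map_sub, hh.involutive]; ring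
  refine ⟨lt_of_le_of_ne inf_le_right fun e => ?_, fun K hK hKS => or_iff_not_imp_left.mpr fun hne =>
    le_antisymm hKS ?_⟩
  · obtain ⟨v, hv, hv0, -⟩ := TSPair.exists_in Δ 0 (m := 0) (by omega) Fin.elim0
    obtain ⟨t, hts', ht⟩ := hσ.exists_transvection (Δ.ts 0 v hv v hv) hl
    exact TSPair.not_stab Δ hv hv0 hl0 ht (inf_eq_right.mp e hts')
  -- a swap of determinant one
  obtain ⟨γ, hγ, hγD⟩ := TSPair.exists_swap Δ
  obtain ⟨δ, hδ⟩ : ∃ δ, δ = (γ : Matrix (Fin n) (Fin n) F).det := ⟨_, rfl⟩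
  have hδ0 : δ ≠ 0 := hδ ▸ ((Matrix.isUnit_iff_isUnit_det _).mp γ.isUnit).ne_zero
  have hN : δ * σ δ = 1 := by
    have e := congrArg Matrix.det (gram_comp σ Δ.hs (γ : Matrix (Fin n) (Fin n) F))
    rw [show (fun x y => hermForm n F q ((γ : Matrix (Fin n) (Fin n) F) *ᵥ x) ((γ : Matrix (Fin n) (Fin n) F) *ᵥ y)) =
      hermForm n F q from funext fun x => funext (hγ x), Matrix.det_mul, Matrix.det_mul, Matrix.det_transpose,
      show ((γ : Matrix (Fin n) (Fin n) F).map σ).det = σ (γ : Matrix (Fin n) (Fin n) F).det from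
        (σ.toRingHom.map_det _).symm, ← hδ] at e
    exact mul_left_cancel₀ (UMaxSL.gram_unit hh).ne_zero (by rw [mul_one]; linear_combination -e)
  obtain ⟨α, hα0, hα⟩ : ∃ α, α ≠ 0 ∧ σ α = δ * α := by
    have hcand : ∀ z, σ (z + σ δ * σ z) = δ * (z + σ δ * σ z) := fun z => by
      rw [map_add, map_mul, hh.involutive, hh.involutive]
      linear_combination (-(σ z)) * hN
    by_cases h1 : (1 : F) + σ δ * σ 1 = 0
    · refine ⟨θ + σ δ * σ θ, fun h0 => hθ ?_, hcand θ⟩
      rw [map_one, mul_one] at h1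
      rw [show σ δ = -1 by linear_combination h1] at h0
      linear_combination -h0
    · exact ⟨1 + σ δ * σ 1, h1, hcand 1⟩
  obtain ⟨h, hh1, hhD, hhd⟩ := TSPair.exists_scale Δ hα0
  have hd1 : ((h * γ : GL (Fin n) F) : Matrix (Fin n) (Fin n) F).det = 1 := by
    rw [Units.val_mul, Matrix.det_mul, hhd, hα, ← hδ]
    field_simp
  have hswD : ∀ i, ∀ x ∈ D i, ((h * γ : GL (Fin n) F) : Matrix (Fin n) (Fin n) F) *ᵥ x ∈ D (TSPair.o i) := fun i x hx => by
    rw [gl_mul_mulVec]; exact hhD _ _ (hγD i x hx)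
  have S : TSPair.Setup σ 1 (hermForm n F q) D K :=
    { data := Δ
      split := fun l hl' => by
        refine ⟨θ * l / (θ - σ θ), ?_⟩
        rw [one_mul] at hl'
        rw [one_mul, map_div₀, map_sub, map_mul, hh.involutive, show σ l = -l by linear_combination hl',
          show σ θ - θ = -(θ - σ θ) by ring]
        field_simp
      skew := ⟨θ - σ θ, hl0, by rw [one_mul]; exact hl⟩
      iso := fun g hg => mem_GU_iff.mp (hKS hg).1
      base := fun g h1 h2 h3 => hK ⟨TSPair.mem_of_maps hD h3, mem_GU_iff.mpr h1, mem_specialLinear_iff.mpr h2⟩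
      sw := ⟨h * γ, hK ⟨TSPair.stab_of hD (i := 0) (j := TSPair.o 0) (hswD 0) (fun x hx => hswD (TSPair.o 0) x hx),
        mem_GU_iff.mpr (fun x y => by rw [gl_mul_mulVec, gl_mul_mulVec, hh1, hγ]), mem_specialLinear_iff.mpr hd1⟩, hswD⟩ }
  obtain ⟨g, hg, hgn⟩ : ∃ g ∈ K, g ∉ decompositionStabilizer D := by
    by_contra hcon
    push Not at hcon
    exact hne (le_antisymm (le_inf hcon hKS) hK)
  obtain ⟨r, hr, hr'⟩ := Finset.exists_mem_notMem_of_card_lt_card (s := ({0, 1, -1} : Finset F)) (t := UFrame.fixF σ)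
    (by rw [UFrame.card_fixF hσ]; exact lt_of_le_of_lt Finset.card_le_three (by omega))
  simp only [Finset.mem_insert, Finset.mem_singleton, not_or] at hr'
  have hr2 : r * r ≠ 1 := fun e => (mul_self_eq_one_iff.mp e).elim hr'.2.1 hr'.2.2
  obtain ⟨j₀, v₀, hv₀, hv₀0, hC⟩ := centre_of_moving S (fun i => by rw [hD.finrank_eq, hk]) hr'.1
    (UFrame.mem_fixF.mp hr) hr2 hθ (fun c hc0 hc => hσ.norm_surjective hc0 hc) hg
    (fun i j h => hgn (TSPair.stab_of hD h.1 h.2))
  refine UOver.suGL_le hσ hn fun v c hv hc t ht => ?_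
  obtain ⟨y, hy, hyx⟩ := TSPair.full_of_center S hv₀ hv₀0 hC hv (l := c) (by rw [one_mul]; exact hc)
  rw [show t = y from gl_ext_mulVec fun x => by rw [ht, hyx, TSPair.tq]]
  exact hy

end Cfsg.Agent.Classical.UFour
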