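/-
The stabiliser of an anisotropic point is maximal in the special unitary group (degree at least four).
-/
import Cfsg.Agent.Lib.Classical.UFour.Move

set_option autoImplicit false
set_option linter.unusedSectionVars false

namespace Cfsg.Agent.Classical.UFour

open Matrix Cfsg.Geo
open Cfsg.Agent.Classical
open Cfsg.Agent.Classical.UOver (Tv tv_conj tv_smul tv_mem)

variable {F : Type*} [Field F] [Fintype F] {n q : ℕ} {σ : F ≃+* F} (hσ : IsUSigma q σ)

include hσ

theorem exists_theta : ∃ θ : F, θ + σ θ = 1 := by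
  obtain ⟨θ, hθ⟩ : ∃ θ : F, θ + σ θ ≠ 0 := by
    by_contra hcon
    push Not at hcon
    refine hσ.ne_refl (RingEquiv.ext fun x => ?_)
    have h1 := hcon 1
    rw [map_one] at h1
    show σ x = x
    linear_combination hcon x - x * h1
  refine ⟨θ / (θ + σ θ), ?_⟩
  rw [map_div₀, map_add, hσ.involutive, add_comm (σ θ) θ, ← add_div, div_self hθ]

/-- An isotropic vector not orthogonal to an anisotropic one. -/
theorem exists_iso_not_perp (hn : 4 ≤ n) {e : Fin n → F} (he : hermForm n F q e e ≠ 0) :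
    ∃ v, hermForm n F q v v = 0 ∧ hermForm n F q e v ≠ 0 := by
  have hf : IsUnitaryForm σ (hermForm n F q) := hσ.isUnitaryForm
  have hs := semiForm_of_unitary hf
  have he0 : e ≠ 0 := fun h => he (by rw [h, ← zero_smul F e, hs.smul_left, zero_mul])
  obtain ⟨w, hwe, hw0⟩ : ∃ w, hermForm n F q w e = 0 ∧ w ≠ 0 := by
    by_contra hcon
    push Not at hcon
    let φ : (Fin n → F) →ₗ[F] F :=
      { toFun := fun x => hermForm n F q x e, map_add' := fun u v => hs.add_left u v e,
        map_smul' := fun c u => hs.smul_left c u e }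
    have h1 := φ.finrank_range_add_finrank_ker
    have h2 := Submodule.finrank_le (LinearMap.range φ)
    rw [Module.finrank_self] at h2
    rw [show LinearMap.ker φ = ⊥ from (Submodule.eq_bot_iff _).mpr fun x hx => hcon x hx, finrank_bot,
      Module.finrank_fintype_fun_eq_card, Fintype.card_fin] at h1
    omega
  obtain ⟨v, hv0, hve, hvv⟩ : ∃ v, v ≠ 0 ∧ hermForm n F q v e = 0 ∧ hermForm n F q v v = 0 := by
    by_contra hcon
    push Not at hcon
    refine hw0 (UMaxSL.perp_induction hf (by rw [Fintype.card_fin]; exact hn) he0 (P := fun x => x = 0)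
      (fun x hx hxx => ?_) (fun a b _ _ ha hb => by rw [ha, hb, add_zero]) hwe)
    by_contra hx0
    exact hcon x hx0 hx hxx
  obtain ⟨z, -, hz⟩ := HermWitt.exists_orth (UMaxSL.herm hf) (W := ⊥) (x := v) (by simpa using hv0)
  change hermForm n F q z v ≠ 0 at hz
  obtain ⟨z', hz'e, hz'v⟩ : ∃ z', hermForm n F q z' e = 0 ∧ hermForm n F q z' v ≠ 0 := by
    refine ⟨z + (-(hermForm n F q z e / hermForm n F q e e)) • e, ?_, ?_⟩
    · rw [hs.add_left, hs.smul_left, neg_mul, div_mul_cancel₀ _ he, add_neg_cancel]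
    · rwa [hs.add_left, hs.smul_left, show hermForm n F q e v = 0 by rw [hf.herm, hve, map_zero], mul_zero, add_zero]
  have hvz : hermForm n F q v z' ≠ 0 := by
    rw [hf.herm]; exact (map_ne_zero σ).mpr hz'v
  obtain ⟨θ, hθ⟩ := exists_theta hσ
  obtain ⟨τ, hτ⟩ : ∃ τ, τ = -hermForm n F q e e - hermForm n F q z' z' := ⟨_, rfl⟩
  have hτσ : σ τ = τ := by rw [hτ, map_sub, map_neg, ← hf.herm, ← hf.herm]
  obtain ⟨s, hs'⟩ : ∃ s, s * hermForm n F q v z' = θ * τ :=
    ⟨θ * τ / hermForm n F q v z', div_mul_cancel₀ _ hvz⟩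
  have hez' : hermForm n F q e z' = 0 := by rw [hf.herm, hz'e, map_zero]
  have hev : hermForm n F q e v = 0 := by rw [hf.herm, hve, map_zero]
  have h2 : σ s * hermForm n F q z' v = σ θ * τ := by
    rw [hf.herm z' v, ← map_mul, hs', map_mul, hτσ]
  refine ⟨e + (s • v + z'), ?_, ?_⟩
  · simp only [hs.add_left, hs.add_right, hs.smul_left, hs.smul_right, hvv, hev, hve, hez', hz'e, mul_zero,
      add_zero, zero_add]
    linear_combination hs' + h2 + τ * hθ + hτ
  · simpa only [hs.add_right, hs.smul_right, hev, hez', mul_zero, add_zero] using he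

/-- An anisotropic vector orthogonal to two orthogonal anisotropic ones. -/
theorem exists_aniso_perp (hn : 4 ≤ n) {e y : Fin n → F} (hee : hermForm n F q e e ≠ 0)
    (hyy : hermForm n F q y y ≠ 0) (hye : hermForm n F q y e = 0) :
    ∃ a, hermForm n F q a e = 0 ∧ hermForm n F q a y = 0 ∧ hermForm n F q a a ≠ 0 := by
  have hf : IsUnitaryForm σ (hermForm n F q) := hσ.isUnitaryForm
  have hs := semiForm_of_unitary hf
  by_contra hcon
  push Not at hcon
  let φ : (Fin n → F) →ₗ[F] F × F :=
    { toFun := fun x => (hermForm n F q x e, hermForm n F q x y)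
      map_add' := fun x z => by simp [hs.add_left]
      map_smul' := fun c x => by simp [hs.smul_left] }
  obtain ⟨b, hb, hb0⟩ : ∃ b ∈ LinearMap.ker φ, b ≠ 0 := by
    refine Submodule.exists_mem_ne_zero_of_ne_bot fun h => ?_
    have e2 := φ.finrank_range_add_finrank_ker
    have e3 := Submodule.finrank_le (LinearMap.range φ)
    rw [Module.finrank_prod, Module.finrank_self] at e3
    rw [h, finrank_bot, Module.finrank_fintype_fun_eq_card, Fintype.card_fin] at e2
    omega
  rw [LinearMap.mem_ker, LinearMap.coe_mk, AddHom.coe_mk, Prod.mk_eq_zero] at hb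
  have hey : hermForm n F q e y = 0 := by rw [hf.herm, hye, map_zero]
  have hzero : ∀ c, hermForm n F q c e = 0 → hermForm n F q c y = 0 → hermForm n F q b c = 0 := fun c hce hcy => by
    have key : ∀ t : F, t * hermForm n F q c b + σ (t * hermForm n F q c b) = 0 := fun t => by
      have := hcon (b + t • c) (by rw [hs.add_left, hs.smul_left, hb.1, hce, mul_zero, add_zero])
        (by rw [hs.add_left, hs.smul_left, hb.2, hcy, mul_zero, add_zero])
      rw [hs.add_left, hs.add_right, hs.add_right, hs.smul_left, hs.smul_left, hs.smul_right, hs.smul_right,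
        hcon b hb.1 hb.2, hcon c hce hcy, hf.herm b c] at this
      rw [map_mul]
      linear_combination this
    by_contra hne
    have hcb : hermForm n F q c b ≠ 0 := fun h => hne (by rw [hf.herm, h, map_zero])
    refine hσ.ne_refl (RingEquiv.ext fun d => ?_)
    have k1 := key (hermForm n F q c b)⁻¹
    have k2 := key (d * (hermForm n F q c b)⁻¹)
    rw [inv_mul_cancel₀ hcb, map_one] at k1
    rw [inv_mul_cancel_right₀ hcb] at k2
    show σ d = d
    linear_combination k2 - d * k1
  obtain ⟨-, x, hx⟩ := hf.nondegenerate b hb0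
  apply hx
  obtain ⟨c, hc⟩ : ∃ c, c = x + (-(hermForm n F q x e / hermForm n F q e e)) • e
      + (-(hermForm n F q x y / hermForm n F q y y)) • y := ⟨_, rfl⟩
  have h1 := hzero c (by rw [hc, hs.add_left, hs.add_left, hs.smul_left, hs.smul_left, hye, mul_zero, add_zero,
      neg_mul, div_mul_cancel₀ _ hee, add_neg_cancel])
    (by rw [hc, hs.add_left, hs.add_left, hs.smul_left, hs.smul_left, hey, mul_zero, add_zero, neg_mul,
      div_mul_cancel₀ _ hyy, add_neg_cancel])
  rwa [hc, hs.add_right, hs.add_right, hs.smul_right, hs.smul_right, hb.1, hb.2, mul_zero, mul_zero, add_zero,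
    add_zero] at h1

/-- The stabiliser of an anisotropic point is maximal. -/
theorem point_maximal (hn : 4 ≤ n) {W : Submodule F (Fin n → F)} (hW0 : W ≠ ⊥)
    (hW : IsNondegenerateOn (hermForm n F q) W) (h1 : Module.finrank F W = 1) :
    IsMaximalIn (suGL n F q) (subspaceStabilizer W ⊓ suGL n F q) := by
  have hf : IsUnitaryForm σ (hermForm n F q) := hσ.isUnitaryForm
  have hs := semiForm_of_unitary hf
  obtain ⟨e, heW, he0⟩ := Submodule.exists_mem_ne_zero_of_ne_bot hW0
  have hWe : W = Submodule.span F {e} := (Submodule.eq_of_le_of_finrank_le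
    ((Submodule.span_singleton_le_iff_mem e W).mpr heW) (by rw [h1, finrank_span_singleton he0])).symm
  have hee : hermForm n F q e e ≠ 0 := by
    obtain ⟨⟨x, hx, hxe⟩, -⟩ := hW e heW he0
    obtain ⟨t, rfl⟩ := Submodule.mem_span_singleton.mp (hWe ▸ hx)
    exact fun h => hxe (by rw [hs.smul_left, h, mul_zero])
  have hmem : ∀ {g : GL (Fin n) F}, g ∈ subspaceStabilizer W →
      (g : Matrix (Fin n) (Fin n) F) *ᵥ e ∈ Submodule.span F {e} := fun {g} hg =>
    hWe ▸ mem_subspaceStabilizer_iff.mp hg e heW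
  obtain ⟨v₀, hv₀, hev₀⟩ := exists_iso_not_perp hσ hn hee
  obtain ⟨c₀, hc₀0, hc₀⟩ := hσ.exists_skew
  constructor
  · refine lt_of_le_of_ne inf_le_right fun heq => ?_
    obtain ⟨g, hg, hgv⟩ := hσ.exists_transvection hv₀ hc₀
    have hg' : g ∈ subspaceStabilizer W ⊓ suGL n F q := heq.symm ▸ hg
    obtain ⟨t, ht⟩ := Submodule.mem_span_singleton.mp (hmem hg'.1)
    rw [hgv e] at ht
    have hsub : (t - 1) • e = (c₀ * hermForm n F q e v₀) • v₀ := by
      rw [sub_smul, one_smul, ht, add_sub_cancel_left]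
    have h2 : (c₀ * hermForm n F q e v₀) * hermForm n F q v₀ v₀ = (t - 1) * hermForm n F q e v₀ := by
      have := congrArg (fun d => hermForm n F q d v₀) hsub
      simp only [hs.smul_left] at this
      exact this.symm
    rw [hv₀, mul_zero, eq_comm, mul_eq_zero, or_iff_left hev₀] at h2
    rw [h2, zero_smul, eq_comm, smul_eq_zero, mul_eq_zero, or_iff_right hc₀0, or_iff_right hev₀] at hsub
    exact hev₀ (by rw [hsub, ← zero_smul F e, hs.smul_right, map_zero, zero_mul])
  intro M hHM hMG
  by_cases hM : ∀ g ∈ M, (g : Matrix (Fin n) (Fin n) F) *ᵥ e ∈ Submodule.span F {e}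
  · left
    refine le_antisymm (le_inf (fun g hg => ?_) hMG) hHM
    exact mem_subspaceStabilizer_iff.mpr fun x hx => by
      obtain ⟨t, rfl⟩ := Submodule.mem_span_singleton.mp (hWe ▸ hx)
      rw [Matrix.mulVec_smul, hWe]
      exact Submodule.smul_mem _ _ (hM g hg)
  right
  refine le_antisymm hMG (UOver.suGL_le hσ hn ?_)
  push Not at hM
  obtain ⟨g, hgM, hge⟩ := hM
  have hgU := mem_GU_iff.mp (hMG hgM).1
  let A : (Fin n → F) → Prop := fun v => ∀ c, c + σ c = 0 → ∀ k, Tv q k v c → k ∈ M
  have hperp : ∀ v, hermForm n F q v v = 0 → hermForm n F q v e = 0 → A v := fun v hv hve c hc k hk => by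
    refine hHM ⟨mem_subspaceStabilizer_iff.mpr fun x hx => ?_, tv_mem hσ hv hc hk⟩
    obtain ⟨t, rfl⟩ := Submodule.mem_span_singleton.mp (hWe ▸ hx)
    rw [Matrix.mulVec_smul, hk, show hermForm n F q e v = 0 by rw [hf.herm, hve, map_zero], mul_zero, zero_smul,
      add_zero]
    exact W.smul_mem _ heW
  have hconj : ∀ k ∈ M, ∀ v, A v → A ((k : Matrix (Fin n) (Fin n) F) *ᵥ v) := fun k hk v hv c hc t ht => by
    have hkU := (hMG hk).1
    have h3 := tv_conj (inv_mem hkU) ht
    rw [gl_inv_mulVec_cancel, inv_inv] at h3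
    simpa [mul_assoc] using mul_mem (mul_mem hk (hv c hc _ h3)) (inv_mem hk)
  have hsmul : ∀ v (s : F), A v → A (s • v) := fun v s hv c hc k hk => hv _ (by
    rw [map_mul, map_mul, hσ.involutive]
    linear_combination (s * σ s) * hc) k (tv_smul hσ s hk)
  obtain ⟨w, hww, hwA, hwe⟩ : ∃ w, hermForm n F q w w = 0 ∧ A w ∧ hermForm n F q w e ≠ 0 := by
    by_contra hcon
    push Not at hcon
    have hmap : ∀ v, hermForm n F q v e = 0 →
        hermForm n F q ((g : Matrix (Fin n) (Fin n) F) *ᵥ v) e = 0 := fun v hv => by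
      refine UMaxSL.perp_induction hf (by rw [Fintype.card_fin]; exact hn) he0
        (P := fun x => hermForm n F q ((g : Matrix (Fin n) (Fin n) F) *ᵥ x) e = 0)
        (fun x hxe hxx => hcon _ ((hgU x x).trans hxx) (hconj g hgM x (hperp x hxx hxe)))
        (fun a b _ _ ha hb => by rw [Matrix.mulVec_add, hs.add_left, ha, hb, add_zero]) hv
    refine hge ?_
    obtain ⟨y, hy⟩ : ∃ y, y = ((g⁻¹ : GL (Fin n) F) : Matrix (Fin n) (Fin n) F) *ᵥ e := ⟨_, rfl⟩
    have hyz : ∀ z, hermForm n F q z e = 0 → hermForm n F q z y = 0 := fun z hz => by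
      rw [← hgU, hy, gl_mulVec_inv_cancel]
      exact hmap z hz
    obtain ⟨t, ht⟩ : ∃ t, t = hermForm n F q y e / hermForm n F q e e := ⟨_, rfl⟩
    obtain ⟨d, hd⟩ : ∃ d, d = y + (-t) • e := ⟨_, rfl⟩
    have hde : hermForm n F q d e = 0 := by
      rw [hd, hs.add_left, hs.smul_left, neg_mul, ht, div_mul_cancel₀ _ hee, add_neg_cancel]
    have hd0 : d = 0 := by
      by_contra hdne
      obtain ⟨⟨z, hz⟩, -⟩ := hf.nondegenerate d hdne
      apply hz
      have e1 : z = (z + (-(hermForm n F q z e / hermForm n F q e e)) • e) +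
          (hermForm n F q z e / hermForm n F q e e) • e := by
        rw [add_assoc, ← add_smul, neg_add_cancel, zero_smul, add_zero]
      have e2 : hermForm n F q (z + (-(hermForm n F q z e / hermForm n F q e e)) • e) e = 0 := by
        rw [hs.add_left, hs.smul_left, neg_mul, div_mul_cancel₀ _ hee, add_neg_cancel]
      rw [e1, hs.add_left, hs.smul_left, show hermForm n F q e d = 0 by rw [hf.herm, hde, map_zero],
        mul_zero, add_zero, hd, hs.add_right, hs.smul_right, hyz _ e2, e2, mul_zero, add_zero]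
    rw [hd, neg_smul, ← sub_eq_add_neg, sub_eq_zero] at hd0
    have hge' : e = t • ((g : Matrix (Fin n) (Fin n) F) *ᵥ e) := by
      rw [← Matrix.mulVec_smul, ← hd0, hy, gl_mulVec_inv_cancel]
    have ht0 : t ≠ 0 := fun h => he0 (by rw [hge', h, zero_smul])
    refine Submodule.mem_span_singleton.mpr ⟨t⁻¹, ?_⟩
    nth_rewrite 1 [hge']
    rw [smul_smul, inv_mul_cancel₀ ht0, one_smul]
  suffices hall : ∀ v, hermForm n F q v v = 0 → A v from fun v c hv hc k hk => hall v hv c hc k hk
  intro x hxx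
  by_cases hxe : hermForm n F q x e = 0
  · exact hperp x hxx hxe
  obtain ⟨r, hr⟩ : ∃ r, r = hermForm n F q w e / hermForm n F q x e := ⟨_, rfl⟩
  have hr0 : r ≠ 0 := hr ▸ div_ne_zero hwe hxe
  have hrx : hermForm n F q (r • x) e = hermForm n F q w e := by rw [hs.smul_left, hr, div_mul_cancel₀ _ hxe]
  suffices h : A (r • x) by
    have := hsmul _ r⁻¹ h
    rwa [smul_smul, inv_mul_cancel₀ hr0, one_smul] at this
  obtain ⟨β, hβ⟩ : ∃ β, β = hermForm n F q w e / hermForm n F q e e := ⟨_, rfl⟩
  have hβe : β * hermForm n F q e e = hermForm n F q w e := by rw [hβ, div_mul_cancel₀ _ hee]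
  obtain ⟨z, hz⟩ : ∃ z, z = w + (-β) • e := ⟨_, rfl⟩
  obtain ⟨y, hy⟩ : ∃ y, y = r • x + (-β) • e := ⟨_, rfl⟩
  have hze : hermForm n F q z e = 0 := by rw [hz, hs.add_left, hs.smul_left, neg_mul, hβe, add_neg_cancel]
  have hye : hermForm n F q y e = 0 := by rw [hy, hs.add_left, hrx, hs.smul_left, neg_mul, hβe, add_neg_cancel]
  have hnorm : ∀ {u d : Fin n → F}, hermForm n F q u u = 0 → d = u + (-β) • e → hermForm n F q d e = 0 →
      hermForm n F q d d = -(β * σ β * hermForm n F q e e) := by
    intro u d hu hd hde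
    have hu' : u = d + β • e := by rw [hd, add_assoc, ← add_smul, neg_add_cancel, zero_smul, add_zero]
    have hed : hermForm n F q e d = 0 := by rw [hf.herm, hde, map_zero]
    rw [hu', hs.add_left, hs.add_right, hs.add_right, hs.smul_left, hs.smul_left, hs.smul_right, hs.smul_right,
      hde, hed] at hu
    linear_combination hu
  have hzz := hnorm hww hz hze
  have hyy := hnorm (show hermForm n F q (r • x) (r • x) = 0 by
    rw [hs.smul_left, hs.smul_right, hxx, mul_zero, mul_zero]) hy hye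
  have hβ0 : β ≠ 0 := fun h => hwe (by rw [← hβe, h, zero_mul])
  have hnz : -(β * σ β * hermForm n F q e e) ≠ 0 :=
    neg_ne_zero.mpr (mul_ne_zero (mul_ne_zero hβ0 ((map_ne_zero σ).mpr hβ0)) hee)
  obtain ⟨a, hae, hay, haa⟩ := exists_aniso_perp hσ hn hee (hyy ▸ hnz) hye
  have hout : ∀ d, hermForm n F q d e = 0 → hermForm n F q d d ≠ 0 → d ∉ Submodule.span F {e} := by
    intro d hde hdd h
    obtain ⟨t, rfl⟩ := Submodule.mem_span_singleton.mp h
    rw [hs.smul_left, mul_eq_zero, or_iff_left hee] at hde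
    exact hdd (by rw [hde, hs.smul_left, zero_mul])
  obtain ⟨k, hk, hfix, hkz⟩ := exists_su_move hσ (W := Submodule.span F {e}) (x := z) (y := y) (a := a)
    (hout z hze (hzz ▸ hnz)) (hout y hye (hyy ▸ hnz)) (hyy.trans hzz.symm)
    (fun h hh => by
      obtain ⟨t, rfl⟩ := Submodule.mem_span_singleton.mp hh
      rw [hs.smul_left, hs.smul_left, hf.herm e y, hf.herm e z, hye, hze])
    (fun h hh => by
      obtain ⟨t, rfl⟩ := Submodule.mem_span_singleton.mp hh
      rw [hs.smul_left, hf.herm, hae, map_zero, mul_zero])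
    (by rw [hf.herm, hay, map_zero]) haa
  have hkM : k ∈ M := hHM ⟨mem_subspaceStabilizer_iff.mpr fun v hv => by
    rw [hWe] at hv ⊢
    rw [hfix v hv]; exact hv, hk⟩
  have hkw : (k : Matrix (Fin n) (Fin n) F) *ᵥ w = r • x := by
    rw [show w = z + β • e by rw [hz, add_assoc, ← add_smul, neg_add_cancel, zero_smul, add_zero],
      Matrix.mulVec_add, hkz, Matrix.mulVec_smul, hfix e (Submodule.mem_span_singleton_self e), hy, add_assoc,
      ← add_smul, neg_add_cancel, zero_smul, add_zero]
  exact hkw ▸ hconj k hkM w hwA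

end Cfsg.Agent.Classical.UFour
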